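import Cfsg.Agent.Lib.Classical.SpMinDegOdd
import Cfsg.Agent.Lib.Pres.SpModel

/-!
# Elements of `Sp_{2n}(F)` and characters of the Siegel radical of rank at most one
-/

set_option autoImplicit false

namespace CfsgLib.Classical.SpWeilGap

open Matrix Module CfsgLib.Classical.SLMinDeg CfsgLib.Classical.SpMinDeg
open CfsgLib.Pres (dElt wElt wElt_sq wElt_uElt_inv)
open CfsgLib.Pres.SpN (levN levN_val psiN psiN_val psiN_dElt dg dg_val)
open scoped MatrixGroups

variable {F : Type*} [Field F] {n : ℕ}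

/-- The unit vector. -/
def ev (i : Fin n) : Fin n → F := Pi.single i 1

theorem ev_self (i : Fin n) : (ev i : Fin n → F) i = 1 := by simp [ev]

theorem ev_ne {i k : Fin n} (h : k ≠ i) : (ev i : Fin n → F) k = 0 := by simp [ev, h]

theorem ev_ne_zero (i : Fin n) : (ev i : Fin n → F) ≠ 0 := fun e => by
  have := congrFun e i
  rw [ev_self] at this
  exact one_ne_zero this

theorem dot_ev (a : Fin n → F) (i : Fin n) : a ⬝ᵥ ev i = a i := by simp [ev, dotProduct_single]

/-! ### The elements -/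

/-- `M ↦ M⁻ᵀ`. -/
def tinv : GL (Fin n) F →* GL (Fin n) F where
  toFun M := ⟨((M⁻¹ : GL (Fin n) F) : Matrix (Fin n) (Fin n) F)ᵀ, (M : Matrix (Fin n) (Fin n) F)ᵀ,
    by rw [← transpose_mul, Units.mul_inv, transpose_one],
    by rw [← transpose_mul, Units.inv_mul, transpose_one]⟩
  map_one' := Units.ext (by simp)
  map_mul' M N := Units.ext (by simp [transpose_mul])

/-- The Levi element acting by `M` on the dual coordinates. -/
def mm : GL (Fin n) F →* Matrix.symplecticGroup (Fin n) F := levN.comp tinv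

theorem mm_val (M : GL (Fin n) F) :
    (mm M : Matrix (Fin n ⊕ Fin n) (Fin n ⊕ Fin n) F) =
      fromBlocks ((M⁻¹ : GL (Fin n) F) : Matrix (Fin n) (Fin n) F)ᵀ 0 0 M := by
  change fromBlocks _ 0 0 ((tinv M)⁻¹ : GL (Fin n) F).1ᵀ = _
  rw [show (((tinv M)⁻¹ : GL (Fin n) F) : Matrix (Fin n) (Fin n) F) =
    (M : Matrix (Fin n) (Fin n) F)ᵀ from rfl, transpose_transpose]
  rfl

theorem mm_neg_one_val :
    ((mm (-1 : GL (Fin n) F) : Matrix.symplecticGroup (Fin n) F) :
      Matrix (Fin n ⊕ Fin n) (Fin n ⊕ Fin n) F) = -1 := by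
  rw [mm_val, inv_neg, inv_one, Units.val_neg, Units.val_one, transpose_neg, transpose_one,
    ← fromBlocks_one, fromBlocks_neg, neg_zero]

/-- `Mᵀ S M`. -/
def pull (M : GL (Fin n) F) (S : symMat n F) : symMat n F :=
  ⟨(M : Matrix (Fin n) (Fin n) F)ᵀ * S.1 * M, by
    change _ᵀ = _
    rw [transpose_mul, transpose_mul, transpose_transpose, symMat_transpose, Matrix.mul_assoc]⟩

theorem siegel_mul_mm (M : GL (Fin n) F) (S : symMat n F) :
    siegel S * mm M = mm M * siegel (pull M S) := by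
  refine Subtype.ext ?_
  rw [Submonoid.coe_mul, Submonoid.coe_mul, coe_siegel, coe_siegel, mm_val, fromBlocks_multiply,
    fromBlocks_multiply]
  simp only [Matrix.one_mul, Matrix.mul_one, Matrix.zero_mul, Matrix.mul_zero, add_zero, zero_add,
    pull]
  congr 1
  rw [← Matrix.mul_assoc, ← Matrix.mul_assoc, ← transpose_mul, Units.mul_inv, transpose_one,
    Matrix.one_mul]

/-- The Weyl element at a coordinate. -/
def sw (i : Fin n) : Matrix.symplecticGroup (Fin n) F := psiN i (wElt F)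

theorem sw_val (i : Fin n) : ((sw i : Matrix.symplecticGroup (Fin n) F) : Matrix (Fin n ⊕ Fin n) (Fin n ⊕ Fin n) F) =
    fromBlocks (1 - diagonal (ev i)) (diagonal (ev i)) (-diagonal (ev i)) (1 - diagonal (ev i)) := by
  rw [sw, psiN_val]
  ext (a | a) (b | b) <;>
    simp [CfsgLib.Pres.SpN.extM, CfsgLib.Pres.SpN.inc, CfsgLib.Pres.SpN.hypPair_zero,
      CfsgLib.Pres.SpN.hypPair_one, wElt, Matrix.mul_apply, Fin.sum_univ_two, Matrix.one_apply,
      Fintype.sum_sum_type, ev, Matrix.diagonal_apply, Pi.single_apply] <;>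
    by_cases ha : a = i <;> by_cases hb : b = i <;> simp_all [eq_comm]

theorem psiN_uElt (i : Fin n) (r : F) :
    psiN i (CfsgLib.Classical.uElt r) = siegel (sqElt (ev i) r) := by
  refine Subtype.ext ?_
  rw [psiN_val, coe_siegel]
  ext (a | a) (b | b) <;>
    simp [CfsgLib.Pres.SpN.extM, CfsgLib.Pres.SpN.inc, CfsgLib.Pres.SpN.hypPair_zero,
      CfsgLib.Pres.SpN.hypPair_one, CfsgLib.Classical.uElt_val, Matrix.mul_apply, Fin.sum_univ_two,
      Matrix.one_apply, Fintype.sum_sum_type, sqElt, Matrix.vecMulVec_apply, ev, Pi.single_apply] <;>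
    by_cases ha : a = i <;> by_cases hb : b = i <;> simp_all [eq_comm]

theorem sw_comm_siegel (i : Fin n) (S : symMat n F) (hS : ∀ l, S.1 i l = 0) :
    sw i * siegel S = siegel S * sw i := by
  have h1 : diagonal (ev i) * S.1 = 0 := by
    ext a b
    rw [diagonal_mul]
    rcases eq_or_ne a i with rfl | ha
    · simp [hS]
    · simp [ev_ne ha]
  have h2 : S.1 * diagonal (ev i) = 0 := by
    have := congrArg Matrix.transpose h1
    rwa [transpose_mul, diagonal_transpose, symMat_transpose, transpose_zero] at this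
  refine Subtype.ext ?_
  rw [Submonoid.coe_mul, Submonoid.coe_mul, sw_val, coe_siegel, fromBlocks_multiply,
    fromBlocks_multiply]
  simp [Matrix.sub_mul, Matrix.mul_sub, h1, h2, add_comm, -Matrix.diagonal_neg]

theorem sw_comm_mm (i : Fin n) (M : GL (Fin n) F)
    (h1 : (M : Matrix (Fin n) (Fin n) F) * diagonal (ev i) = diagonal (ev i))
    (h2 : diagonal (ev i) * (M : Matrix (Fin n) (Fin n) F) = diagonal (ev i)) :
    sw i * mm M = mm M * sw i := by
  have h1' : ((M⁻¹ : GL (Fin n) F) : Matrix (Fin n) (Fin n) F) * diagonal (ev i) =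
      diagonal (ev i) := by
    conv_lhs => rw [← h1, ← Matrix.mul_assoc, Units.inv_mul, Matrix.one_mul]
  have h2' : diagonal (ev i) * ((M⁻¹ : GL (Fin n) F) : Matrix (Fin n) (Fin n) F) =
      diagonal (ev i) := by
    conv_lhs => rw [← h2, Matrix.mul_assoc, Units.mul_inv, Matrix.mul_one]
  have e1 := congrArg Matrix.transpose h1'
  have e2 := congrArg Matrix.transpose h2'
  rw [transpose_mul, diagonal_transpose] at e1 e2
  refine Subtype.ext ?_
  rw [Submonoid.coe_mul, Submonoid.coe_mul, sw_val, mm_val, fromBlocks_multiply,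
    fromBlocks_multiply]
  simp [Matrix.sub_mul, Matrix.mul_sub, e1, e2, h1, h2, -Matrix.diagonal_neg, -Matrix.coe_units_inv]

/-- A transvection. -/
def tv {i k : Fin n} (h : i ≠ k) (t : F) : GL (Fin n) F :=
  ⟨Matrix.transvection i k t, Matrix.transvection i k (-t),
    by rw [Matrix.transvection_mul_transvection_same _ _ h, add_neg_cancel, Matrix.transvection_zero],
    by rw [Matrix.transvection_mul_transvection_same _ _ h, neg_add_cancel, Matrix.transvection_zero]⟩

theorem tv_val {i k : Fin n} (h : i ≠ k) (t : F) :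
    (tv h t : Matrix (Fin n) (Fin n) F) = Matrix.transvection i k t := rfl

theorem tv_mulVec {i k : Fin n} (h : i ≠ k) (t : F) (a : Fin n → F) :
    (tv h t : Matrix (Fin n) (Fin n) F) *ᵥ a = a + (t * a k) • ev i := by
  rw [tv_val, Matrix.transvection, Matrix.add_mulVec, Matrix.one_mulVec]
  congr 1
  funext l
  rcases eq_or_ne l i with rfl | hl <;> simp [Matrix.single_mulVec, ev, *]

theorem sw_mul_cross {i k : Fin n} (h : i ≠ k) (r : F) :
    sw i * siegel (crossElt (ev i) (ev k) r) = mm (tv h (-r)) * sw i := by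
  refine Subtype.ext ?_
  rw [Submonoid.coe_mul, Submonoid.coe_mul, sw_val, coe_siegel, mm_val, fromBlocks_multiply,
    fromBlocks_multiply,
    show (((tv h (-r))⁻¹ : GL (Fin n) F) : Matrix (Fin n) (Fin n) F) =
      Matrix.transvection i k (-(-r)) from rfl, tv_val]
  simp only [fromBlocks_inj, Matrix.mul_one, Matrix.one_mul, Matrix.mul_zero, Matrix.zero_mul,
    add_zero, zero_add]
  refine ⟨?_, ?_, ?_, ?_⟩ <;> ext a b <;>
    simp [crossElt, Matrix.transvection, Matrix.single_apply, Matrix.vecMulVec_apply,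
      Matrix.mul_diagonal, Matrix.diagonal_mul, Matrix.sub_mul, Matrix.mul_sub, Matrix.add_mul,
      Matrix.mul_add, Matrix.neg_mul, Matrix.one_apply, Matrix.diagonal_apply, ev, Pi.single_apply] <;>
    by_cases ha : a = i <;> by_cases hb : b = i <;> simp_all [eq_comm]

/-- The diagonal element at a coordinate. -/
def dd (i : Fin n) (t : Fˣ) : GL (Fin n) F := dg i t

theorem dd_mulVec (i : Fin n) (t : Fˣ) (a : Fin n → F) :
    (dd i t : Matrix (Fin n) (Fin n) F) *ᵥ a = Function.update a i ((t : F) * a i) := by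
  funext l
  rw [dd, dg_val, mulVec_diagonal]
  rcases eq_or_ne l i with rfl | hl
  · simp
  · simp [hl]

theorem mm_dd (i : Fin n) (t : Fˣ) : mm (dd i t) = psiN i (dElt t⁻¹) := by
  rw [psiN_dElt, mm, MonoidHom.comp_apply]
  congr 1
  refine Units.ext ?_
  change ((dd i t)⁻¹ : GL (Fin n) F).1ᵀ = _
  rw [dd, ← map_inv, dg_val, diagonal_transpose]

theorem sw_mm_dd (i : Fin n) (t : Fˣ) : sw i * mm (dd i t) = mm (dd i t⁻¹) * sw i := by
  have h := CfsgLib.Pres.wElt_dElt (t⁻¹ : Fˣ)
  rw [mul_inv_eq_iff_eq_mul] at h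
  rw [mm_dd, mm_dd, sw, ← map_mul, ← map_mul, h]
  congr 2
  refine inv_eq_of_mul_eq_one_right (Subtype.ext ?_)
  rw [Matrix.SpecialLinearGroup.coe_mul]
  ext a b
  fin_cases a <;> fin_cases b <;> simp [dElt, Matrix.mul_apply, Fin.sum_univ_two]

theorem sw_sq (i : Fin n) : sw i * sw i = mm (dd i (-1 : Fˣ)) := by
  rw [mm_dd, sw, ← map_mul, wElt_sq]
  congr 1
  refine Subtype.ext ?_
  ext a b
  fin_cases a <;> fin_cases b <;> simp [dElt]

theorem sw_four (i : Fin n) : sw i * (sw i * (sw i * sw i)) = (1 : Matrix.symplecticGroup (Fin n) F) := by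
  rw [← mul_assoc, sw, ← map_mul, ← map_mul, wElt_sq]
  simp

theorem sw_braid (i : Fin n) :
    sw i * (siegel (sqElt (ev i) (1 : F)) * (sw i * (siegel (sqElt (ev i) 1) *
      (sw i * siegel (sqElt (ev i) 1))))) = 1 := by
  rw [← psiN_uElt, sw, ← map_mul, ← map_mul, ← map_mul, ← map_mul, ← map_mul,
    show wElt F * (CfsgLib.Classical.uElt 1 * (wElt F * (CfsgLib.Classical.uElt 1 *
      (wElt F * CfsgLib.Classical.uElt 1)))) = 1 from ?_, map_one]
  refine Subtype.ext ?_
  simp only [Matrix.SpecialLinearGroup.coe_mul, CfsgLib.Classical.uElt_val]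
  ext a b
  fin_cases a <;> fin_cases b <;>
    simp [wElt, Matrix.mul_apply, Fin.sum_univ_two, Matrix.vecMul, dotProduct]

theorem mm_dd_eq (i : Fin n) (t : Fˣ) :
    mm (dd i t) = siegel (sqElt (ev i) (((t⁻¹ : Fˣ) : F))) * sw i *
      siegel (sqElt (ev i) (t : F)) * (sw i * (sw i * sw i)) *
      siegel (sqElt (ev i) (((t⁻¹ : Fˣ) : F))) * (sw i * (sw i * sw i)) := by
  have h3 : sw i * (sw i * sw i) = (sw i : Matrix.symplecticGroup (Fin n) F)⁻¹ :=
    eq_inv_of_mul_eq_one_right (sw_four i)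
  have h := wElt_uElt_inv (t⁻¹ : Fˣ)
  rw [Units.val_inv_eq_inv_val, inv_inv] at h
  have e : dElt (t⁻¹ : Fˣ) = CfsgLib.Classical.uElt ((t : F)⁻¹) *
      (wElt F * CfsgLib.Classical.uElt (t : F) * (wElt F)⁻¹) *
      CfsgLib.Classical.uElt ((t : F)⁻¹) * (wElt F)⁻¹ := by
    rw [h]; group
  rw [h3, mm_dd, sw, ← map_inv, ← psiN_uElt, ← psiN_uElt, ← map_mul, ← map_mul, ← map_mul,
    ← map_mul, ← map_mul, e, Units.val_inv_eq_inv_val]
  simp only [mul_assoc]

/-- A subgroup with the Levi factor, the Siegel radical and one Weyl element is everything. -/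
theorem eq_top_of_gens [Fintype F] (H : Subgroup (Matrix.symplecticGroup (Fin n) F))
    {i k : Fin n} (hik : k ≠ i) (hm : ∀ M, mm M ∈ H) (hs : ∀ S, siegel S ∈ H) (hw : sw i ∈ H) :
    H = ⊤ := by
  rw [eq_top_iff, ← CfsgLib.Pres.SpN.closure_model hik, Subgroup.closure_le]
  rintro x (⟨M, rfl⟩ | ⟨M, rfl⟩)
  · have e : levN (Matrix.SpecialLinearGroup.toGL M) = mm (tinv (Matrix.SpecialLinearGroup.toGL M)) := by
      rw [mm, MonoidHom.comp_apply]
      congr 1
    change levN _ ∈ H
    rw [e]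
    exact hm _
  · have key : ∀ A : SL(2, F), (A : Matrix (Fin 2) (Fin 2) F) 1 0 ≠ 0 → psiN i A ∈ H := by
      intro A hA
      obtain ⟨a, b, c, d, ha, hb, hc, hd⟩ :
          ∃ a b c d, (A : Matrix (Fin 2) (Fin 2) F) 0 0 = a ∧
            (A : Matrix (Fin 2) (Fin 2) F) 0 1 = b ∧ (A : Matrix (Fin 2) (Fin 2) F) 1 0 = c ∧
            (A : Matrix (Fin 2) (Fin 2) F) 1 1 = d := ⟨_, _, _, _, rfl, rfl, rfl, rfl⟩
      rw [hc] at hA
      have hdet : a * d - b * c = 1 := by
        rw [← ha, ← hb, ← hc, ← hd, ← Matrix.det_fin_two]; exact A.2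
      have e : A = CfsgLib.Classical.uElt (a / c) * dElt ((-(Units.mk0 c hA)⁻¹ : Fˣ)) * wElt F *
          CfsgLib.Classical.uElt (d / c) := by
        refine Subtype.ext ?_
        simp only [Matrix.SpecialLinearGroup.coe_mul, CfsgLib.Classical.uElt_val]
        ext p q
        fin_cases p <;> fin_cases q <;>
          simp [wElt, dElt, Matrix.mul_apply, Fin.sum_univ_two, Matrix.vecMul, dotProduct, ha, hb, hc, hd] <;>
          field_simp <;>
          first | linear_combination hdet | linear_combination -hdet | ring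
      rw [e, map_mul, map_mul, map_mul, psiN_uElt, psiN_uElt,
        show (dElt (-(Units.mk0 c hA)⁻¹ : Fˣ) : SL(2, F)) = dElt ((-(Units.mk0 c hA)⁻¹)⁻¹)⁻¹ by
          rw [inv_inv],
        ← mm_dd]
      exact H.mul_mem (H.mul_mem (H.mul_mem (hs _) (hm _)) hw) (hs _)
    by_cases hM : (M : Matrix (Fin 2) (Fin 2) F) 1 0 ≠ 0
    · exact key M hM
    push Not at hM
    have h := key (wElt F * M) (by
      rw [Matrix.SpecialLinearGroup.coe_mul]
      simp [wElt, Matrix.mul_apply, Fin.sum_univ_two]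
      intro e
      have hdet := M.2
      rw [Matrix.det_fin_two, e, hM] at hdet
      simp at hdet)
    rw [map_mul] at h
    exact (Subgroup.mul_mem_cancel_left H hw).1 h

/-! ### Characters -/

variable {ψ : AddChar F ℂ}

/-- The character `S ↦ ψ (c · aᵀ S a)`. -/
def sqChar (ψ : AddChar F ℂ) (c : F) (a : Fin n → F) : AddChar (symMat n F) ℂ where
  toFun S := ψ (c * (a ⬝ᵥ (S.1 *ᵥ a)))
  map_zero_eq_one' := by simp
  map_add_eq_mul' S T := by
    rw [← AddChar.map_add_eq_mul]
    simp [Matrix.add_mulVec, mul_add]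

theorem sqChar_apply (c : F) (a : Fin n → F) (S : symMat n F) :
    sqChar ψ c a S = ψ (c * (a ⬝ᵥ (S.1 *ᵥ a))) := rfl

theorem sqChar_cross (c : F) (a x y : Fin n → F) (r : F) :
    sqChar ψ c a (crossElt x y r) = ψ (r * (2 * c * (a ⬝ᵥ x) * (a ⬝ᵥ y))) := by
  rw [sqChar_apply]
  congr 1
  simp only [crossElt, Matrix.smul_mulVec, Matrix.add_mulVec, Matrix.vecMulVec_mulVec,
    dotProduct_smul, dotProduct_add, op_smul_eq_smul, smul_eq_mul]
  rw [dotProduct_comm y a, dotProduct_comm x a]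
  ring

theorem sqChar_sq (c : F) (a x : Fin n → F) (r : F) :
    sqChar ψ c a (sqElt x r) = ψ (r * (c * ((a ⬝ᵥ x) * (a ⬝ᵥ x)))) := by
  rw [sqChar_apply]
  congr 1
  simp only [sqElt, Matrix.smul_mulVec, Matrix.vecMulVec_mulVec, dotProduct_smul, op_smul_eq_smul,
    smul_eq_mul]
  rw [dotProduct_comm x a]
  ring

theorem sqChar_cross_ev (c : F) (a : Fin n → F) (i k : Fin n) (r : F) :
    sqChar ψ c a (crossElt (ev i) (ev k) r) = ψ (r * (2 * c * a i * a k)) := by
  rw [sqChar_cross, dot_ev, dot_ev]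

theorem sqChar_zero (a : Fin n → F) : sqChar ψ 0 a = 1 :=
  DFunLike.ext _ _ fun S => by simp [sqChar_apply]

theorem sqChar_vec_zero (c : F) : sqChar ψ c (0 : Fin n → F) = 1 :=
  DFunLike.ext _ _ fun S => by simp [sqChar_apply]

theorem sqChar_smul (c t : F) (a : Fin n → F) :
    sqChar ψ c (t • a) = sqChar ψ (c * (t * t)) a :=
  DFunLike.ext _ _ fun S => by
    simp [sqChar_apply, Matrix.mulVec_smul]
    ring_nf

theorem sqChar_neg (c : F) (a : Fin n → F) : sqChar ψ c (-a) = sqChar ψ c a := by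
  rw [← neg_one_smul F a, sqChar_smul]
  simp

theorem sqChar_pull (c : F) (a : Fin n → F) (M : GL (Fin n) F) (S : symMat n F) :
    sqChar ψ c a (pull M S) = sqChar ψ c ((M : Matrix (Fin n) (Fin n) F) *ᵥ a) S := by
  rw [sqChar_apply, sqChar_apply]
  congr 2
  simp only [pull, ← Matrix.mulVec_mulVec]
  rw [Matrix.dotProduct_mulVec a, Matrix.vecMul_transpose]

theorem symMat_zero_row {i : Fin n} {x y : Fin n → F} (hx : x i = 0) (hy : y i = 0) (r : F)
    (l : Fin n) : (crossElt x y r).1 i l = 0 := by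
  simp [crossElt, Matrix.vecMulVec_apply, hx, hy]

/-- A character of a sum. -/
theorem char_sum {A : Type*} [AddCommMonoid A] {ι : Type*} (χ : AddChar A ℂ) (s : Finset ι)
    (f : ι → A) : χ (∑ i ∈ s, f i) = ∏ i ∈ s, χ (f i) := by
  classical
  induction s using Finset.induction_on with
  | empty => simp
  | @insert a t ha ih =>
    rw [Finset.sum_insert ha, Finset.prod_insert ha, AddChar.map_add_eq_mul, ih]

variable [Fintype F]

theorem huniq (hψ : ψ.IsPrimitive) {a b : F} (h : ∀ r, ψ (r * a) = ψ (r * b)) : a = b := by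
  refine AddChar.to_mulShift_inj_of_isPrimitive hψ (DFunLike.ext _ _ fun r => ?_)
  rw [AddChar.mulShift_apply, AddChar.mulShift_apply, mul_comm, h, mul_comm]

omit [Fintype F] in
/-- Symmetric matrices are spanned by the elementary ones. -/
theorem char_ext (h2 : (2 : F) ≠ 0) {χ χ' : AddChar (symMat n F) ℂ}
    (h : ∀ l k r, χ (crossElt (ev l) (ev k) r) = χ' (crossElt (ev l) (ev k) r)) : χ = χ' := by
  refine DFunLike.ext _ _ fun S => ?_
  have e : S = ∑ l, ∑ k, crossElt (ev l) (ev k) ((2 : F)⁻¹ * S.1 l k) := by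
    refine Subtype.ext ?_
    ext a b
    have hs : S.1 b a = S.1 a b := by
      conv_rhs => rw [← symMat_transpose S]
      rfl
    simp [crossElt, Matrix.vecMulVec_apply, ev, Pi.single_apply, AddSubgroup.val_finset_sum,
      Matrix.sum_apply, mul_add, Finset.sum_add_distrib, ite_and]
    rw [hs, ← mul_add, ← two_mul, inv_mul_cancel_left₀ h2]
  conv_lhs => rw [e]
  conv_rhs => rw [e]
  simp only [char_sum, h]

/-- Two characters of rank at most one agreeing off a coordinate. -/
theorem agree_off (h2 : (2 : F) ≠ 0) (hψ : ψ.IsPrimitive) {c d : F} {a b : Fin n → F} {i : Fin n}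
    (h : ∀ S : symMat n F, (∀ l, S.1 i l = 0) → sqChar ψ c a S = sqChar ψ d b S)
    {l k : Fin n} (hl : l ≠ i) (hk : k ≠ i) : c * (a l * a k) = d * (b l * b k) := by
  have e := huniq hψ (a := 2 * c * a l * a k) (b := 2 * d * b l * b k) fun r => by
    rw [← sqChar_cross_ev, ← sqChar_cross_ev]
    exact h _ fun m => symMat_zero_row (ev_ne hl.symm) (ev_ne hk.symm) r m
  refine mul_left_cancel₀ h2 ?_
  linear_combination e

theorem sqChar_eq_iff (h2 : (2 : F) ≠ 0) (hψ : ψ.IsPrimitive) {c d : F} {a b : Fin n → F}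
    (h : sqChar ψ c a = sqChar ψ d b) (l k : Fin n) : c * (a l * a k) = d * (b l * b k) := by
  have e := huniq hψ (a := 2 * c * a l * a k) (b := 2 * d * b l * b k) fun r => by
    rw [← sqChar_cross_ev, ← sqChar_cross_ev, h]
  refine mul_left_cancel₀ h2 ?_
  linear_combination e

theorem sqChar_ne_one (h2 : (2 : F) ≠ 0) (hψ : ψ.IsPrimitive) {c : F} (hc : c ≠ 0) {a : Fin n → F}
    (ha : a ≠ 0) : sqChar ψ c a ≠ 1 := fun e => by
  obtain ⟨l, hl⟩ := Function.ne_iff.1 ha
  have := sqChar_eq_iff (d := 0) (b := a) h2 hψ (e.trans (sqChar_zero a).symm) l l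
  rw [zero_mul] at this
  exact hl (mul_self_eq_zero.1 ((mul_eq_zero.1 this).resolve_left hc))

/-- The quadratic form of a character. -/
theorem exists_form (hψ : ψ.IsPrimitive) (χ : AddChar (symMat n F) ℂ) :
    ∃ Q : QuadraticForm F (Fin n → F), (∀ x r, χ (sqElt x r) = ψ (r * Q x)) ∧
      ∀ x y r, χ (crossElt x y r) = ψ (r * QuadraticMap.polar Q x y) := by
  have hex : ∀ x, ∃ t, ∀ r, χ (sqElt x r) = ψ (r * t) := fun x => by
    let φ : AddChar F ℂ :=
      { toFun := fun r => χ (sqElt x r)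
        map_zero_eq_one' := by
          rw [show sqElt x (0 : F) = 0 from Subtype.ext (by simp [sqElt]), AddChar.map_zero_eq_one]
        map_add_eq_mul' := fun a b => by rw [sqElt_add, AddChar.map_add_eq_mul] }
    obtain ⟨t, ht⟩ := ((Fintype.bijective_iff_injective_and_card _).2
      ⟨AddChar.to_mulShift_inj_of_isPrimitive hψ, (AddChar.card_eq (α := F)).symm⟩).2 φ
    exact ⟨t, fun c => (DFunLike.congr_fun ht c).symm.trans (by
      rw [AddChar.mulShift_apply, mul_comm])⟩
  choose f hf using hex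
  have hcross : ∀ x y r, χ (crossElt x y r) = ψ (r * QuadraticMap.polar f x y) := by
    intro x y r
    have e := hf (x + y) r
    rw [sqElt_add_vec, AddChar.map_add_eq_mul, AddChar.map_add_eq_mul, hf, hf,
      ← AddChar.map_add_eq_mul] at e
    refine mul_left_cancel₀ (a := ψ (r * f x + r * f y)) (AddChar.val_isUnit ψ _).ne_zero ?_
    rw [e, ← AddChar.map_add_eq_mul]
    congr 1
    simp only [QuadraticMap.polar]; ring
  exact ⟨QuadraticMap.ofPolar f
    (fun a x => huniq hψ fun r => by rw [← hf, sqElt_smul, hf, smul_eq_mul, mul_assoc, sq])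
    (fun x x' y => huniq hψ fun r => by
      rw [← hcross, crossElt_add, AddChar.map_add_eq_mul, hcross, hcross, ← AddChar.map_add_eq_mul,
        mul_add])
    (fun a x y => huniq hψ fun r => by rw [← hcross, crossElt_smul, hcross, smul_eq_mul, mul_assoc]),
    hf, hcross⟩

end CfsgLib.Classical.SpWeilGap
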