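import Cfsg.Agent.Lib.Classical.SpWeilGap.Lines

/-!
# The invariant subspace spanned by the eigenlines of one class
-/

set_option autoImplicit false

namespace CfsgLib.Classical.SpWeilGap

open Matrix Module CfsgLib.Classical.SLMinDeg CfsgLib.Classical.SpMinDeg

variable {F : Type*} [Field F]

section Matrices

variable {n : ℕ}

/-- The Weyl elements at two coordinates commute. -/
theorem sw_comm {i j : Fin n} (h : i ≠ j) :
    (sw i : Matrix.symplecticGroup (Fin n) F) * sw j = sw j * sw i := by
  refine Subtype.ext ?_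
  rw [Submonoid.coe_mul, Submonoid.coe_mul, sw_val, sw_val, fromBlocks_multiply,
    fromBlocks_multiply]
  have e : (diagonal (ev i) : Matrix (Fin n) (Fin n) F) * diagonal (ev j) = 0 := by
    rw [diagonal_mul_diagonal, ← diagonal_zero]
    congr 1
    funext l
    rcases eq_or_ne l i with rfl | hl
    · simp [ev_ne h]
    · simp [ev_ne hl]
  have e' : (diagonal (ev j) : Matrix (Fin n) (Fin n) F) * diagonal (ev i) = 0 := by
    rw [← e, diagonal_mul_diagonal, diagonal_mul_diagonal]
    congr 1
    funext l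
    exact mul_comm _ _
  simp [Matrix.sub_mul, Matrix.mul_sub, e, e', -Matrix.diagonal_neg]
  refine ⟨?_, ?_⟩ <;> abel_nf <;> simp

/-- The column replacement `1 + u e_kᵀ`. -/
def colMat (k : Fin n) (u : Fin n → F) : Matrix (Fin n) (Fin n) F := 1 + vecMulVec u (ev k)

theorem colMat_mul (k : Fin n) (u u' : Fin n → F) :
    colMat k u * colMat k u' = colMat k (u + u' + u' k • u) := by
  ext a b
  simp [colMat, Matrix.add_mul, Matrix.mul_add, Matrix.vecMulVec_mul, Matrix.vecMulVec_apply,
    Matrix.vecMul_vecMulVec, Matrix.add_apply, ev]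
  ring

theorem colMat_zero (k : Fin n) : colMat k (0 : Fin n → F) = 1 := by simp [colMat]

/-- An element moving `e_k` to a given vector and fixing the coordinates where it vanishes. -/
theorem exists_frame {k : Fin n} {a : Fin n → F} (ha : a k ≠ 0) :
    ∃ M : GL (Fin n) F, (M : Matrix (Fin n) (Fin n) F) *ᵥ ev k = a ∧
      ∀ i, i ≠ k → a i = 0 →
        (M : Matrix (Fin n) (Fin n) F) * diagonal (ev i) = diagonal (ev i) ∧
        diagonal (ev i) * (M : Matrix (Fin n) (Fin n) F) = diagonal (ev i) := by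
  set u := a - ev k with hu
  refine ⟨⟨colMat k u, colMat k (-(a k)⁻¹ • u), ?_, ?_⟩, ?_, fun i hik hi => ⟨?_, ?_⟩⟩
  · rw [colMat_mul, show u + -(a k)⁻¹ • u + (-(a k)⁻¹ • u) k • u = 0 from ?_, colMat_zero]
    funext l
    simp [hu, ev_self]
    field_simp
    ring
  · rw [colMat_mul, show -(a k)⁻¹ • u + u + u k • (-(a k)⁻¹ • u) = 0 from ?_, colMat_zero]
    funext l
    simp [hu, ev_self]
    field_simp
    ring
  · change colMat k u *ᵥ ev k = a
    rw [colMat, Matrix.add_mulVec, Matrix.one_mulVec, Matrix.vecMulVec_mulVec, dot_ev, ev_self]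
    funext l
    simp [hu]
  · change colMat k u * _ = _
    rw [colMat, Matrix.add_mul, Matrix.one_mul, Matrix.vecMulVec_mul]
    ext p q
    simp [Matrix.vecMulVec_apply, Matrix.vecMul_diagonal]
    rcases eq_or_ne q k with rfl | hq
    · simp [ev_ne hik.symm]
    · simp [ev_ne hq]
  · change _ * colMat k u = _
    rw [colMat, Matrix.mul_add, Matrix.mul_one]
    ext p q
    simp [Matrix.diagonal_mul, Matrix.vecMulVec_apply]
    rcases eq_or_ne p i with rfl | hp
    · simp [hu, hi, ev_ne hik]
    · simp [ev_ne hp]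

theorem exists_mulVec {o : Fin n} {a : Fin n → F} (ha : a ≠ 0) :
    ∃ M : GL (Fin n) F, (M : Matrix (Fin n) (Fin n) F) *ᵥ ev o = a := by
  obtain ⟨k, hk⟩ := Function.ne_iff.1 ha
  obtain ⟨M, hM, -⟩ := exists_frame hk
  rcases eq_or_ne k o with rfl | hko
  · exact ⟨M, hM⟩
  refine ⟨M * (tv hko.symm (-1) * tv hko 1), ?_⟩
  rw [Units.val_mul, Units.val_mul, ← Matrix.mulVec_mulVec, ← Matrix.mulVec_mulVec, tv_mulVec,
    tv_mulVec, ← hM]
  congr 1
  simp [ev_self, ev_ne hko, ev_ne hko.symm]

/-- A square matrix as the lower block. -/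
def upA {m : ℕ} (A : Matrix (Fin m) (Fin m) F) : Matrix (Fin (m + 1)) (Fin (m + 1)) F :=
  Matrix.of fun i j => Fin.cases (Fin.cases (1 : F) (fun _ => 0) j)
    (fun i' => Fin.cases 0 (fun j' => A i' j') j) i

theorem upA_mul {m : ℕ} (A B : Matrix (Fin m) (Fin m) F) : upA (A * B) = upA A * upA B := by
  ext i j
  refine Fin.cases ?_ (fun i => ?_) i <;> refine Fin.cases ?_ (fun j => ?_) j <;>
    simp [upA, Matrix.mul_apply, Fin.sum_univ_succ]

theorem upA_transvection {m : ℕ} (t : Matrix.TransvectionStruct (Fin m) F) :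
    upA t.toMatrix = Matrix.transvection t.i.succ t.j.succ t.c := by
  ext i j
  refine Fin.cases ?_ (fun i => ?_) i <;> refine Fin.cases ?_ (fun j => ?_) j <;>
    simp [upA, Matrix.TransvectionStruct.toMatrix, Matrix.transvection, Matrix.single_apply,
      Matrix.one_apply, Fin.succ_ne_zero, (Fin.succ_ne_zero _).symm, Fin.succ_inj]

theorem upA_diagonal {m : ℕ} (d : Fin m → F) :
    upA (Matrix.diagonal d) = Matrix.diagonal (Fin.cons 1 d) := by
  ext i j
  refine Fin.cases ?_ (fun i => ?_) i <;> refine Fin.cases ?_ (fun j => ?_) j <;>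
    simp [upA, Matrix.diagonal_apply, Fin.succ_ne_zero, (Fin.succ_ne_zero _).symm, Fin.succ_inj]

theorem det_upA {m : ℕ} (A : Matrix (Fin m) (Fin m) F) : (upA A).det = A.det := by
  rw [Matrix.det_succ_row_zero, Fin.sum_univ_succ]
  simp [upA, Matrix.submatrix]
  rfl

/-- A property of matrices closed under products, holding for the evident generators of the
stabiliser of `e₀`, holds on that stabiliser. -/
theorem stab_induction {m : ℕ} (P : Matrix (Fin (m + 1)) (Fin (m + 1)) F → Prop)
    (h1 : P 1) (hmul : ∀ A B, P A → P B → P (A * B))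
    (htv : ∀ i k : Fin (m + 1), i ≠ k → k ≠ 0 → ∀ t, P (Matrix.transvection i k t))
    (hdd : ∀ i : Fin (m + 1), i ≠ 0 → ∀ t : Fˣ, P (dd i t).1) {σ : F}
    (hσ : σ ≠ 0) (hd0 : P (Matrix.diagonal (Function.update 1 0 σ)))
    {M : Matrix (Fin (m + 1)) (Fin (m + 1)) F} (hdet : M.det ≠ 0)
    (hM : M *ᵥ ev 0 = σ • ev 0) : P M := by
  classical
  have hdiag : ∀ d : Fin (m + 1) → F, d 0 = 1 → (∀ l, d l ≠ 0) → P (Matrix.diagonal d) := by
    intro d hd0 hd
    have hs : ∀ s : Finset (Fin (m + 1)),
        P (Matrix.diagonal fun l => if l ∈ s then d l else 1) := by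
      intro s
      induction s using Finset.induction_on with
      | empty => simpa using h1
      | @insert a s ha ih =>
        by_cases ha0 : a = 0
        · have e : (fun l => if l ∈ insert a s then d l else (1 : F)) =
              fun l => if l ∈ s then d l else 1 := by
            funext l
            rcases eq_or_ne l a with rfl | hl
            · simp [ha, ha0, hd0]
            · simp [hl]
          rwa [e]
        have e : Matrix.diagonal (fun l => if l ∈ insert a s then d l else (1 : F)) =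
            (dd a (Units.mk0 (d a) (hd a))).1 *
              Matrix.diagonal (fun l => if l ∈ s then d l else 1) := by
          rw [dd, CfsgLib.Pres.SpN.dg_val, Matrix.diagonal_mul_diagonal]
          congr 1
          funext l
          rcases eq_or_ne l a with rfl | hl
          · simp [ha]
          · simp [hl]
        rw [e]
        exact hmul _ _ (hdd a ha0 _) ih
    have h := hs Finset.univ
    simpa using h
  set A : Matrix (Fin m) (Fin m) F := Matrix.of fun i j => M i.succ j.succ
  have hcol : ∀ i, M i 0 = if i = 0 then σ else 0 := fun i => by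
    have e := congrFun hM i
    rw [ev, Matrix.mulVec_single] at e
    simp [Pi.single_apply] at e
    exact e
  let r : Fin (m + 1) → F := fun j => if j = 0 then 0 else σ⁻¹ * M 0 j
  have e : M = upA A * (Matrix.diagonal (Function.update 1 0 σ) *
      (1 + vecMulVec (ev 0) r)) := by
    ext i j
    refine Fin.cases ?_ (fun i => ?_) i <;> refine Fin.cases ?_ (fun j => ?_) j <;>
      simp [upA, A, r, Matrix.mul_apply, Fin.sum_univ_succ, Matrix.diagonal_apply,
        Matrix.vecMulVec_apply, ev, hcol, Fin.succ_ne_zero, (Fin.succ_ne_zero _).symm,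
        Matrix.one_apply, Matrix.add_apply, Fin.succ_inj, mul_inv_cancel_left₀ hσ]
  have hA : P (upA A) := by
    have hAdet : A.det ≠ 0 := by
      intro h
      rw [e, Matrix.det_mul, det_upA, h, zero_mul] at hdet
      exact hdet rfl
    refine Matrix.diagonal_transvection_induction_of_det_ne_zero (fun B => P (upA B)) A hAdet
      (fun d hd => ?_) (fun t => ?_) fun B C _ _ hB hC => by rw [upA_mul]; exact hmul _ _ hB hC
    · rw [upA_diagonal]
      refine hdiag _ (by simp) fun l => ?_
      refine Fin.cases (by simp) (fun i => ?_) l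
      simp only [Matrix.det_diagonal, Finset.prod_ne_zero_iff] at hd
      simpa using hd i (Finset.mem_univ _)
    · rw [upA_transvection]
      exact htv _ _ (fun h => t.hij (Fin.succ_inj.1 h)) (Fin.succ_ne_zero _) _
  have hR : ∀ s : Finset (Fin (m + 1)),
      P (1 + vecMulVec (ev 0) fun j => if j ∈ s then r j else 0) := by
    intro s
    induction s using Finset.induction_on with
    | empty =>
      convert h1
      ext p q
      simp [Matrix.vecMulVec_apply]
    | @insert a s ha ih =>
      by_cases ha0 : a = 0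
      · have e : (fun j => if j ∈ insert a s then r j else (0 : F)) =
            fun j => if j ∈ s then r j else 0 := by
          funext j
          rcases eq_or_ne j a with rfl | hj
          · simp [r, ha0]
          · simp [hj]
        rwa [e]
      have e : (1 + vecMulVec (ev 0) fun j => if j ∈ insert a s then r j else (0 : F)) =
          Matrix.transvection 0 a (r a) *
            (1 + vecMulVec (ev 0) fun j => if j ∈ s then r j else 0) := by
        ext p q
        rcases eq_or_ne p 0 with rfl | hp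
        · simp [Matrix.vecMulVec_apply, ev_self, ev_ne ha0, Matrix.one_apply, Matrix.add_apply]
          rcases eq_or_ne q a with rfl | hq
          · simp [ha, add_comm, add_left_comm]
          · simp [hq, hq.symm]
        · simp [Matrix.vecMulVec_apply, ev_ne hp, Matrix.add_apply, hp]
      rw [e]
      exact hmul _ _ (htv 0 a (Ne.symm ha0) ha0 _) ih
  rw [e]
  refine hmul _ _ hA (hmul _ _ hd0 ?_)
  simpa using hR Finset.univ

end Matrices

variable {m : ℕ} {V : Type*} [AddCommGroup V] [Module ℂ V]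
  {ρ : Representation ℂ (Matrix.symplecticGroup (Fin (m + 1)) F) V} {ψ : AddChar F ℂ}
  [Fintype (symMat (m + 1) F)] [Fintype F]
  (h2 : (2 : F) ≠ 0) (hψ : ψ.IsPrimitive) (hL : LowRank ρ ψ) {c : F} (hc : c ≠ 0) {w : V}
  (hw : w ∈ eigen ρ siegel (sqChar ψ c (ev 0)))

/-- The span of the translates of `w` under the Levi factor. -/
def lineSpan (ρ : Representation ℂ (Matrix.symplecticGroup (Fin (m + 1)) F) V) (w : V) :
    Submodule ℂ V :=
  Submodule.span ℂ (Set.range fun M : GL (Fin (m + 1)) F => ρ (mm M) w)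

omit [Fintype (symMat (m + 1) F)] [Fintype F] in
theorem mm_mem_lineSpan (M : GL (Fin (m + 1)) F) {x : V} (hx : x ∈ lineSpan ρ w) :
    ρ (mm M) x ∈ lineSpan ρ w := by
  have hle : lineSpan ρ w ≤ (lineSpan ρ w).comap (ρ (mm M)) := Submodule.span_le.2 (by
    rintro _ ⟨N, rfl⟩
    refine Submodule.subset_span ⟨M * N, ?_⟩
    change ρ (mm (M * N)) w = ρ (mm M) (ρ (mm N) w)
    rw [map_mul, map_mul, Module.End.mul_apply])
  exact hle hx

omit [Fintype (symMat (m + 1) F)] [Fintype F] in
theorem gen_mem_lineSpan (M : GL (Fin (m + 1)) F) : ρ (mm M) w ∈ lineSpan ρ w :=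
  Submodule.subset_span ⟨M, rfl⟩

include hw in
omit [Fintype (symMat (m + 1) F)] [Fintype F] in
theorem siegel_mem_lineSpan (S : symMat (m + 1) F) {x : V} (hx : x ∈ lineSpan ρ w) :
    ρ (siegel S) x ∈ lineSpan ρ w := by
  have hle : lineSpan ρ w ≤ (lineSpan ρ w).comap (ρ (siegel S)) := Submodule.span_le.2 (by
    rintro _ ⟨N, rfl⟩
    rw [SetLike.mem_coe, Submodule.mem_comap, eigen_mm_sq ρ ψ N hw S]
    exact Submodule.smul_mem _ _ (gen_mem_lineSpan N))
  exact hle hx

include hw in
omit [Fintype F] in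
theorem proj_mem_lineSpan (χ : AddChar (symMat (m + 1) F) ℂ) {x : V} (hx : x ∈ lineSpan ρ w) :
    proj ρ siegel χ x ∈ lineSpan ρ w := by
  simp only [proj, LinearMap.smul_apply, LinearMap.sum_apply]
  exact Submodule.smul_mem _ _ (Submodule.sum_mem _ fun S _ =>
    Submodule.smul_mem _ _ (siegel_mem_lineSpan hw S hx))

include h2 hψ hL hc hw

/-- The stabiliser of the character acts by scalars on `w`. -/
theorem stab_scalar (hm : 1 ≤ m) (hε : ∃ s : ℂ, ρ (mm (-1)) w = s • w) (M : GL (Fin (m + 1)) F)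
    {σ : F} (hσ : σ = 1 ∨ σ = -1)
    (hM : (M : Matrix (Fin (m + 1)) (Fin (m + 1)) F) *ᵥ ev 0 = σ • ev 0) :
    ∃ s : ℂ, ρ (mm M) w = s • w := by
  classical
  let P : Matrix (Fin (m + 1)) (Fin (m + 1)) F → Prop := fun A =>
    ∃ N : GL (Fin (m + 1)) F, N.1 = A ∧ ∃ s : ℂ, ρ (mm N) w = s • w
  have hmul : ∀ A B, P A → P B → P (A * B) := by
    rintro _ _ ⟨N, rfl, s, hs⟩ ⟨N', rfl, s', hs'⟩
    exact ⟨N * N', rfl, s' * s, by
      rw [map_mul, map_mul, Module.End.mul_apply, hs', map_smul, hs, smul_smul]⟩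
  have hdd : ∀ i : Fin (m + 1), i ≠ 0 → ∀ t : Fˣ, P (dd i t).1 := fun i hi t =>
    ⟨dd i t, rfl, dd_scalar h2 hψ hL hi hc t hw⟩
  have h1 : P 1 := ⟨1, rfl, 1, by simp⟩
  suffices h : P M.1 by
    obtain ⟨N, hN, hs⟩ := h
    rwa [Units.ext hN] at hs
  refine stab_induction P h1 hmul (fun i k hik hk t => ⟨tv hik t, rfl, 1, by
    rw [one_smul]; exact tv_fix h2 hψ hL hik (ev_ne hk) hw t⟩) hdd
    (σ := σ) (by rcases hσ with rfl | rfl <;> simp) ?_ ?_ hM
  · rcases hσ with rfl | rfl
    · rw [show Function.update (1 : Fin (m + 1) → F) 0 1 = fun _ => 1 from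
        funext fun l => by rcases eq_or_ne l 0 with rfl | hl <;> simp [*], Matrix.diagonal_one]
      exact h1
    · have hrest : P (Matrix.diagonal (Function.update (fun _ => (-1 : F)) (0 : Fin (m + 1)) 1)) := by
        have hs : ∀ s : Finset (Fin (m + 1)), (0 : Fin (m + 1)) ∉ s →
            P (Matrix.diagonal fun l => if l ∈ s then (-1 : F) else 1) := by
          intro s
          induction s using Finset.induction_on with
          | empty => intro _; simpa using h1
          | @insert a s ha ih =>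
            intro h0
            rw [Finset.mem_insert, not_or] at h0
            have e : Matrix.diagonal (fun l => if l ∈ insert a s then (-1 : F) else 1) =
                (dd a (-1 : Fˣ)).1 * Matrix.diagonal (fun l => if l ∈ s then (-1 : F) else 1) := by
              rw [dd, CfsgLib.Pres.SpN.dg_val, Matrix.diagonal_mul_diagonal]
              congr 1
              funext l
              rcases eq_or_ne l a with rfl | hl
              · simp [ha]
              · simp [hl]
            rw [e]
            exact hmul _ _ (hdd a (Ne.symm h0.1) _) (ih h0.2)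
        convert hs (Finset.univ.erase 0) (Finset.notMem_erase _ _) using 2
        funext l
        rcases eq_or_ne l 0 with rfl | hl <;> simp [*]
      convert hmul _ _ (show P (-1) from ⟨-1, rfl, hε⟩) hrest using 1
      rw [← Matrix.diagonal_one, Matrix.diagonal_neg, Matrix.diagonal_mul_diagonal]
      congr 1
      funext l
      rcases eq_or_ne l 0 with rfl | hl <;> simp [*]
  · exact ((Matrix.isUnit_iff_isUnit_det _).1 ⟨M, rfl⟩).ne_zero

omit h2 hψ hL hc hw [Fintype (symMat (m + 1) F)] [Fintype F] in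
theorem scalar_transport {M N : GL (Fin (m + 1)) F} (h : ∃ s : ℂ, ρ (mm (N⁻¹ * M)) w = s • w) :
    ∃ s : ℂ, ρ (mm M) w = s • ρ (mm N) w := by
  obtain ⟨s, hs⟩ := h
  refine ⟨s, ?_⟩
  rw [← map_smul, ← hs, ← Module.End.mul_apply, ← map_mul, ← map_mul, mul_inv_cancel_left]

/-- Translates with one character are proportional. -/
theorem translate_scalar (hm : 1 ≤ m) (hε : ∃ s : ℂ, ρ (mm (-1)) w = s • w)
    (M N : GL (Fin (m + 1)) F) {σ : F} (hσ : σ = 1 ∨ σ = -1)
    (h : (M : Matrix (Fin (m + 1)) (Fin (m + 1)) F) *ᵥ ev 0 =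
      σ • ((N : Matrix (Fin (m + 1)) (Fin (m + 1)) F) *ᵥ ev 0)) :
    ∃ s : ℂ, ρ (mm M) w = s • ρ (mm N) w := by
  refine scalar_transport (stab_scalar h2 hψ hL hc hw hm hε _ hσ ?_)
  rw [Units.val_mul, ← Matrix.mulVec_mulVec, h, Matrix.mulVec_smul, Matrix.mulVec_mulVec,
    Units.inv_mul, Matrix.one_mulVec]

/-- The Weyl element on translates off its axis. -/
theorem sw_gen (hm : 1 ≤ m) (hε : ∃ s : ℂ, ρ (mm (-1)) w = s • w) (M : GL (Fin (m + 1)) F)
    {k : Fin (m + 1)} (hk : k ≠ 0)
    (ha : ((M : Matrix (Fin (m + 1)) (Fin (m + 1)) F) *ᵥ ev 0) k ≠ 0) :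
    ρ (sw 0) (ρ (mm M) w) ∈ lineSpan ρ w := by
  set a := (M : Matrix (Fin (m + 1)) (Fin (m + 1)) F) *ᵥ ev 0 with ha'
  set b := Function.update a 0 0 with hb
  obtain ⟨N, hN, hNfix⟩ := exists_frame (a := b) (k := k) (by rw [hb, Function.update_of_ne hk]; exact ha)
  obtain ⟨hN1, hN2⟩ := hNfix 0 (Ne.symm hk) (by rw [hb, Function.update_self])
  obtain ⟨P, hP⟩ := exists_mulVec (o := (0 : Fin (m + 1))) (a := ev k) (ev_ne_zero (F := F) k)
  set T := tv (Ne.symm hk) (a 0) with hT
  obtain ⟨s, hs⟩ := translate_scalar h2 hψ hL hc hw hm hε M (N * (T * P)) (σ := 1) (Or.inl rfl) (by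
    rw [one_smul, Units.val_mul, Units.val_mul, ← Matrix.mulVec_mulVec, ← Matrix.mulVec_mulVec, hP,
      tv_line, Matrix.mulVec_add, hN, Matrix.mulVec_smul, ← ha',
      show ((N : Matrix (Fin (m + 1)) (Fin (m + 1)) F) *ᵥ ev 0) = ev 0 from ?_]
    · funext l
      rcases eq_or_ne l 0 with rfl | hl
      · simp [hb, ev_self]
      · simp [hb, hl, ev_ne hl]
    · funext l
      have e := congrFun (congrFun hN1 l) 0
      rw [Matrix.mul_diagonal, ev_self, mul_one] at e
      rw [ev, Matrix.mulVec_single]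
      simp [e, Matrix.diagonal_apply, ev, Pi.single_apply])
  set x := ρ (mm P) w with hx
  have hxe : x ∈ eigen ρ siegel (sqChar ψ c (ev k)) := by
    rw [hx, ← hP]; exact eigen_mm_sq ρ ψ P hw
  obtain ⟨κ, hκ⟩ := sw_formula h2 hψ hL (Ne.symm hk) hc
  rw [hs, map_smul]
  refine Submodule.smul_mem _ _ ?_
  rw [← Module.End.mul_apply, ← map_mul, map_mul (mm : GL (Fin (m + 1)) F →* _),
    map_mul (mm : GL (Fin (m + 1)) F →* _), ← mul_assoc, sw_comm_mm 0 N hN1 hN2, mul_assoc,
    ← mul_assoc (sw 0), hT, sw_mul_tv, mul_assoc (siegel _), map_mul, Module.End.mul_apply, map_mul,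
    Module.End.mul_apply, map_mul, Module.End.mul_apply, ← hx, hκ x hxe]
  refine mm_mem_lineSpan N (siegel_mem_lineSpan hw _ (Submodule.smul_mem _ _ ?_))
  refine Submodule.sum_mem _ fun t _ => Submodule.smul_mem _ _ ?_
  rw [hx]
  exact mm_mem_lineSpan _ (gen_mem_lineSpan P)

/-- The Weyl element on `w`: the non-fixed part lies in the span of the translates. -/
theorem sw_self (hm : 1 ≤ m) (hε : ∃ s : ℂ, ρ (mm (-1)) w = s • w) (hw0 : w ≠ 0)
    {χ : AddChar (symMat (m + 1) F) ℂ} (hχ : χ ≠ 1) :
    proj ρ siegel χ (ρ (sw 0) w) ∈ lineSpan ρ w := by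
  classical
  by_cases hz : proj ρ siegel χ (ρ (sw 0) w) = 0
  · rw [hz]; exact Submodule.zero_mem _
  set v := ρ (sw 0) w with hv
  obtain ⟨j, hj⟩ : ∃ j : Fin (m + 1), j ≠ 0 :=
    ⟨⟨1, by omega⟩, fun e => by simpa using congrArg Fin.val e⟩
  have haxis : ∀ χ' : AddChar (symMat (m + 1) F) ℂ, proj ρ siegel χ' v ≠ 0 → χ' ≠ 1 →
      ∃ d, d ≠ 0 ∧ χ' = sqChar ψ d (ev 0) := by
    intro χ' h' h1
    obtain ⟨d, b, rfl, hb⟩ := sw_supp h2 hψ hL hw h'
    have hd : d ≠ 0 := fun e => h1 (by rw [e, sqChar_zero])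
    have hb0 : ∀ l, l ≠ 0 → b l = 0 := fun l hl => by
      have e := hb l l hl hl
      rw [ev_ne hl, mul_zero, mul_zero] at e
      exact mul_self_eq_zero.1 ((mul_eq_zero.1 e.symm).resolve_left hd)
    have e : b = b 0 • ev 0 := by
      funext l
      rcases eq_or_ne l 0 with rfl | hl
      · simp [ev_self]
      · simp [ev_ne hl, hb0 l hl]
    rw [e, sqChar_smul] at h1 ⊢
    exact ⟨_, fun e0 => h1 (by rw [e0, sqChar_zero]), rfl⟩
  obtain ⟨d, hd, rfl⟩ := haxis χ hz hχ
  obtain ⟨κ, hκ⟩ := sw_formula h2 hψ hL hj hc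
  have hκ0 : κ ≠ 0 := fun e => hw0 ((ρ.apply_bijective (sw j)).1 (by
    rw [map_zero, hκ w hw, e, zero_smul]))
  -- the difference lies in the span
  have hdiff : ρ (sw j) v - κ • v ∈ lineSpan ρ w := by
    rw [hv, ← Module.End.mul_apply, ← map_mul, sw_comm hj, map_mul, Module.End.mul_apply, hκ w hw,
      map_smul, ← smul_sub]
    refine Submodule.smul_mem _ _ ?_
    rw [vec, map_sum, ← Finset.add_sum_erase _ _ (Finset.mem_univ (0 : F)),
      show tv hj (0 : F) = 1 from Units.ext (by simp [tv_val]), map_one, map_one,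
      Module.End.one_apply, Pi.one_apply, one_smul, add_sub_cancel_left]
    refine Submodule.sum_mem _ fun t ht => ?_
    rw [Pi.one_apply, one_smul]
    exact sw_gen h2 hψ hL hc hw hm hε _ hj (by
      rw [tv_line]; simpa [ev_self, ev_ne hj] using Finset.ne_of_mem_erase ht)
  set χ₁ := sqChar ψ d (ev 0 + (1 : F) • ev j) with hχ₁
  have hproj := proj_mem_lineSpan hw χ₁ hdiff
  have hv0 : proj ρ siegel χ₁ v = 0 := by
    by_contra h
    obtain ⟨d', hd', e⟩ := haxis χ₁ h (sqChar_ne_one h2 hψ hd fun e => by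
      simpa [ev_self, ev_ne hj.symm] using congrFun e 0)
    have e1 := sqChar_eq_iff h2 hψ e j j
    simp [ev_self, ev_ne hj, hd] at e1
  rw [map_sub, map_smul, hv0, smul_zero, sub_zero] at hproj
  obtain ⟨κ', hκ'⟩ := sw_formula h2 hψ hL hj hd
  set z := proj ρ siegel (sqChar ψ d (ev 0)) v with hz'
  have hzm : z ∈ eigen ρ siegel (sqChar ψ d (ev 0)) := proj_mem ρ siegel _ _
  have hκ'0 : κ' ≠ 0 := fun e => hz ((ρ.apply_bijective (sw j)).1 (by
    rw [map_zero, hκ' z hzm, e, zero_smul]))
  have hcomp : proj ρ siegel χ₁ (ρ (sw j) v) = κ' • ρ (mm (tv hj 1)) z := by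
    conv_lhs => rw [eq_sum_proj ρ siegel v]
    rw [map_sum, map_sum, Finset.sum_eq_single (sqChar ψ d (ev 0)) (fun χ' _ hne => ?_) (by simp),
      ← hz', hκ' z hzm, map_smul, hχ₁, proj_vec h2 hψ hj hd 1 hzm 1, Pi.one_apply, one_smul]
    by_contra hne0
    have hnz : proj ρ siegel χ' v ≠ 0 := fun e => hne0 (by rw [e, map_zero, map_zero])
    by_cases h1 : χ' = 1
    · subst h1
      have hm1 : proj ρ siegel (1 : AddChar (symMat (m + 1) F) ℂ) v ∈
          eigen ρ siegel (sqChar ψ 0 (ev 0)) := by rw [sqChar_zero]; exact proj_mem ρ siegel _ _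
      have e1 := agree_off h2 hψ (c := 0) (a := ev 0) (d := d) (b := ev 0 + (1 : F) • ev j) (i := j)
        (sw_agree hL hm1 hne0) hj.symm hj.symm
      simp [ev_self, ev_ne hj.symm] at e1
      exact hd e1.symm
    · obtain ⟨d', -, rfl⟩ := haxis χ' hnz h1
      have e1 := agree_off h2 hψ (sw_agree hL (proj_mem ρ siegel _ v) hne0) hj.symm hj.symm
      simp [ev_self, ev_ne hj.symm] at e1
      exact hne (by rw [e1])
  rw [hcomp, Submodule.smul_mem_iff _ hκ'0] at hproj
  have e := mm_mem_lineSpan (tv hj 1)⁻¹ hproj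
  rwa [← Module.End.mul_apply, ← map_mul, ← map_mul, inv_mul_cancel, map_one, map_one,
    Module.End.one_apply] at e

/-- The invariant subspace attached to `w`. -/
theorem exists_space [FiniteDimensional ℂ V] (hm : 1 ≤ m) (hε : ∃ s : ℂ, ρ (mm (-1)) w = s • w)
    (hw0 : w ≠ 0) :
    ∃ X : Submodule ℂ V, (∀ g, ∀ x ∈ X, ρ g x ∈ X) ∧ w ∈ X ∧
      2 * finrank ℂ X ≤ Fintype.card F ^ (m + 1) + 1 ∧
      ∀ χ : AddChar (symMat (m + 1) F) ℂ, χ ≠ 1 → (∀ a, χ ≠ sqChar ψ c a) →
        ∀ x ∈ X, proj ρ siegel χ x = 0 := by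
  classical
  set v := ρ (sw 0) w with hv
  set y := proj ρ siegel (1 : AddChar (symMat (m + 1) F) ℂ) v with hy
  set X := lineSpan ρ w ⊔ Submodule.span ℂ {y} with hX
  have hvy : v - y ∈ lineSpan ρ w := by
    rw [hy]
    conv => arg 2; arg 1; rw [eq_sum_proj ρ siegel v, ← Finset.add_sum_erase _ _
      (Finset.mem_univ (1 : AddChar (symMat (m + 1) F) ℂ))]
    rw [add_sub_cancel_left]
    exact Submodule.sum_mem _ fun χ hχ =>
      sw_self h2 hψ hL hc hw hm hε hw0 (Finset.ne_of_mem_erase hχ)
  have hy1 : y ∈ eigen ρ siegel (sqChar ψ 0 (ev (0 : Fin (m + 1)))) := by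
    rw [sqChar_zero]; exact proj_mem ρ siegel _ _
  -- the Levi factor on `y`
  have hyscal : ∀ M : GL (Fin (m + 1)) F, ∃ s : ℂ, ρ (mm M) y = s • y := by
    let P : Matrix (Fin (m + 1)) (Fin (m + 1)) F → Prop := fun A =>
      ∃ N : GL (Fin (m + 1)) F, N.1 = A ∧ ∃ s : ℂ, ρ (mm N) y = s • y
    have hmul : ∀ A B, P A → P B → P (A * B) := by
      rintro _ _ ⟨N, rfl, s, hs⟩ ⟨N', rfl, s', hs'⟩
      exact ⟨N * N', rfl, s' * s, by
        rw [map_mul, map_mul, Module.End.mul_apply, hs', map_smul, hs, smul_smul]⟩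
    have hfix : ∀ (i k : Fin (m + 1)) (h : i ≠ k) (t : F), ρ (mm (tv h t)) y = y := fun i k h t => by
      have hy0 : y ∈ eigen ρ siegel (sqChar ψ 0 (0 : Fin (m + 1) → F)) := by
        rw [sqChar_zero]; exact proj_mem ρ siegel _ _
      exact tv_fix h2 hψ hL h rfl hy0 t
    have hdj : ∀ i : Fin (m + 1), i ≠ 0 → ∀ t : Fˣ, P (dd i t).1 := by
      intro i hi t
      obtain ⟨s, hs⟩ := dd_scalar h2 hψ hL hi hc t hw
      refine ⟨dd i t, rfl, s, ?_⟩
      rw [hy, ← proj_mm, pullC_one, hv, ← Module.End.mul_apply (ρ (mm (dd i t))), ← map_mul,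
        ← sw_comm_mm 0 (dd i t) (by
          rw [dd, CfsgLib.Pres.SpN.dg_val, Matrix.diagonal_mul_diagonal]
          congr 1
          funext l
          rcases eq_or_ne l 0 with rfl | hl
          · simp [Ne.symm hi]
          · simp [ev_ne hl]) (by
          rw [dd, CfsgLib.Pres.SpN.dg_val, Matrix.diagonal_mul_diagonal]
          congr 1
          funext l
          rcases eq_or_ne l 0 with rfl | hl
          · simp [Ne.symm hi]
          · simp [ev_ne hl]),
        map_mul, Module.End.mul_apply, hs, map_smul, map_smul]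
    have hd : ∀ i : Fin (m + 1), ∀ t : Fˣ, P (dd i t).1 := by
      intro i t
      rcases eq_or_ne i 0 with rfl | hi
      swap
      · exact hdj i hi t
      obtain ⟨j, hj⟩ : ∃ j : Fin (m + 1), j ≠ 0 :=
        ⟨⟨1, by omega⟩, fun e => by simpa using congrArg Fin.val e⟩
      obtain ⟨N, hN, s, hs⟩ := hdj j hj t
      obtain rfl : N = dd j t := Units.ext hN
      set W := tv hj.symm (1 : F) * tv hj (-1) * tv hj.symm 1
      have hWy : ρ (mm W) y = y := by
        simp only [W, map_mul, Module.End.mul_apply, hfix]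
      refine ⟨dd 0 t, rfl, s, ?_⟩
      have e : dd (0 : Fin (m + 1)) t * W = W * dd j t := by
        refine Units.ext ?_
        refine Matrix.toLin'.injective (LinearMap.ext fun x => ?_)
        simp only [W, Units.val_mul, Matrix.toLin'_apply, ← Matrix.mulVec_mulVec, tv_mulVec,
          dd_mulVec]
        funext l
        rcases eq_or_ne l 0 with rfl | hl
        · simp [ev_self, ev_ne hj, ev_ne hj.symm, hj, hj.symm]
        rcases eq_or_ne l j with rfl | hlj
        · simp [ev_self, ev_ne hj, ev_ne hj.symm, hj, hj.symm]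
        · simp [ev_ne hl, ev_ne hlj, hl, hlj]
      calc ρ (mm (dd 0 t)) y = ρ (mm (dd 0 t * W)) y := by
            rw [map_mul, map_mul, Module.End.mul_apply, hWy]
        _ = s • y := by rw [e, map_mul, map_mul, Module.End.mul_apply, hs, map_smul, hWy]
    intro M
    obtain ⟨N, hN, hs⟩ : P M.1 := by
      refine Matrix.diagonal_transvection_induction_of_det_ne_zero P M.1
        ((Matrix.isUnit_iff_isUnit_det _).1 ⟨M, rfl⟩).ne_zero (fun d hdd => ?_) (fun t => ?_)
        fun A B _ _ hA hB => hmul A B hA hB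
      · simp only [Matrix.det_diagonal, Finset.prod_ne_zero_iff] at hdd
        have hs : ∀ s : Finset (Fin (m + 1)),
            P (Matrix.diagonal fun l => if l ∈ s then d l else 1) := by
          intro s
          induction s using Finset.induction_on with
          | empty => exact ⟨1, by simp, 1, by simp⟩
          | @insert a s ha ih =>
            have e : Matrix.diagonal (fun l => if l ∈ insert a s then d l else (1 : F)) =
                (dd a (Units.mk0 (d a) (hdd a (Finset.mem_univ _)))).1 *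
                  Matrix.diagonal (fun l => if l ∈ s then d l else 1) := by
              rw [dd, CfsgLib.Pres.SpN.dg_val, Matrix.diagonal_mul_diagonal]
              congr 1
              funext l
              rcases eq_or_ne l a with rfl | hl
              · simp [ha]
              · simp [hl]
            rw [e]
            exact hmul _ _ (hd a _) ih
        simpa using hs Finset.univ
      · exact ⟨tv t.hij t.c, rfl, 1, by rw [one_smul]; exact hfix _ _ t.hij t.c⟩
    rwa [Units.ext hN] at hs
  have hyX : y ∈ X := Submodule.mem_sup_right (Submodule.mem_span_singleton_self y)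
  have hlX : lineSpan ρ w ≤ X := le_sup_left
  have hwX : w ∈ X := hlX (by simpa using gen_mem_lineSpan (ρ := ρ) (w := w) 1)
  have hgen : ∀ f : Module.End ℂ V, (∀ M, f (ρ (mm M) w) ∈ X) → f y ∈ X → ∀ x ∈ X, f x ∈ X := by
    intro f h1 h3 x hx
    have hle : X ≤ X.comap f := sup_le (Submodule.span_le.2 (by rintro _ ⟨M, rfl⟩; exact h1 M))
      ((Submodule.span_singleton_le_iff_mem _ _).2 h3)
    exact hle hx
  have hmmX : ∀ M, ∀ x ∈ X, ρ (mm M) x ∈ X := fun M => hgen _
    (fun N => hlX (mm_mem_lineSpan M (gen_mem_lineSpan N)))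
    (by obtain ⟨s, hs⟩ := hyscal M; rw [hs]; exact X.smul_mem _ hyX)
  have hsX : ∀ S, ∀ x ∈ X, ρ (siegel S) x ∈ X := fun S => hgen _
    (fun N => hlX (siegel_mem_lineSpan hw S (gen_mem_lineSpan N)))
    (by rw [hy1 S]; exact X.smul_mem _ hyX)
  have hswgen : ∀ M, ρ (sw 0) (ρ (mm M) w) ∈ X := by
    intro M
    by_cases hk : ∃ k, k ≠ 0 ∧ ((M : Matrix (Fin (m + 1)) (Fin (m + 1)) F) *ᵥ ev 0) k ≠ 0
    · obtain ⟨k, hk0, hk⟩ := hk
      exact hlX (sw_gen h2 hψ hL hc hw hm hε M hk0 hk)
    push Not at hk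
    set t := ((M : Matrix (Fin (m + 1)) (Fin (m + 1)) F) *ᵥ ev 0) 0 with ht
    have hMe : (M : Matrix (Fin (m + 1)) (Fin (m + 1)) F) *ᵥ ev 0 = t • ev 0 := by
      funext l
      rcases eq_or_ne l 0 with rfl | hl
      · simp [ev_self, ht]
      · simp [ev_ne hl, hk l hl]
    have ht0 : t ≠ 0 := fun e => ev_ne_zero (0 : Fin (m + 1)) (by
      have := congrArg ((M⁻¹ : GL (Fin (m + 1)) F).1.mulVec) hMe
      rw [Matrix.mulVec_mulVec, Units.inv_mul, Matrix.one_mulVec, e, zero_smul,
        Matrix.mulVec_zero] at this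
      exact this)
    obtain ⟨s, hs⟩ := translate_scalar h2 hψ hL hc hw hm hε M (dd 0 (Units.mk0 t ht0)) (σ := 1)
      (Or.inl rfl) (by
        rw [one_smul, hMe, dd_mulVec]
        funext l
        rcases eq_or_ne l 0 with rfl | hl
        · simp [ev_self]
        · simp [ev_ne hl, hl])
    rw [hs, map_smul, ← Module.End.mul_apply, ← map_mul, sw_mm_dd, map_mul, Module.End.mul_apply,
      ← hv]
    refine X.smul_mem _ (hmmX _ _ ?_)
    rw [← sub_add_cancel v y]
    exact X.add_mem (hlX hvy) hyX
  have hswline : ∀ x ∈ lineSpan ρ w, ρ (sw 0) x ∈ X := by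
    intro x hx
    have hle : lineSpan ρ w ≤ X.comap (ρ (sw 0)) :=
      Submodule.span_le.2 (by rintro _ ⟨M, rfl⟩; exact hswgen M)
    exact hle hx
  have hswX : ∀ x ∈ X, ρ (sw 0) x ∈ X := hgen _ hswgen (by
    have e : y = v - (v - y) := by abel
    rw [e, map_sub]
    refine X.sub_mem ?_ (hswline _ hvy)
    rw [hv, ← Module.End.mul_apply, ← map_mul, sw_sq]
    exact hmmX _ _ hwX)
  refine ⟨X, ?_, hwX, ?_, ?_⟩
  · have hfin : Finite (Matrix.symplecticGroup (Fin (m + 1)) F) := Finite.of_injective _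
      Subtype.coe_injective
    let H : Subgroup (Matrix.symplecticGroup (Fin (m + 1)) F) :=
      { carrier := {g | ∀ x ∈ X, ρ g x ∈ X}
        mul_mem' := fun {a b} ha hb x hx => by
          rw [map_mul, Module.End.mul_apply]; exact ha _ (hb x hx)
        one_mem' := fun x hx => by simpa using hx
        inv_mem' := fun {a} ha => by
          have hp : ∀ k : ℕ, ∀ x ∈ X, ρ (a ^ k) x ∈ X := by
            intro k
            induction k with
            | zero => intro x hx; simpa using hx
            | succ k ih =>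
              intro x hx
              rw [pow_succ, map_mul, Module.End.mul_apply]
              exact ih _ (ha x hx)
          have e : a⁻¹ = a ^ (orderOf a - 1) := inv_eq_of_mul_eq_one_right (by
            rw [← pow_succ', Nat.sub_add_cancel (orderOf_pos a), pow_orderOf_eq_one])
          rw [Set.mem_setOf_eq, e]
          exact hp _ }
    have htop := eq_top_of_gens H (i := (0 : Fin (m + 1))) (k := ⟨1, by omega⟩)
      (fun e => by simpa using congrArg Fin.val e) hmmX hsX hswX
    exact fun g => (htop ▸ Subgroup.mem_top g : g ∈ H)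
  · set K := (Finset.univ : Finset (Fin (m + 1) → F)).image (sqChar ψ c) with hK
    have hrep : ∀ χ ∈ K, χ ≠ 1 → ∃ M : GL (Fin (m + 1)) F,
        sqChar ψ c ((M : Matrix (Fin (m + 1)) (Fin (m + 1)) F) *ᵥ ev 0) = χ := by
      intro χ hχ h1
      obtain ⟨a, -, rfl⟩ := Finset.mem_image.1 hχ
      obtain ⟨M, hM⟩ := exists_mulVec (o := (0 : Fin (m + 1))) (a := a)
        (fun e => h1 (by rw [e, sqChar_vec_zero]))
      exact ⟨M, by rw [hM]⟩
    choose rep hrep using hrep
    let u : AddChar (symMat (m + 1) F) ℂ → V := fun χ =>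
      if h : χ ∈ K ∧ χ ≠ 1 then ρ (mm (rep χ h.1 h.2)) w else y
    have hle : X ≤ Submodule.span ℂ ((K.image u : Finset V) : Set V) := by
      refine sup_le (Submodule.span_le.2 ?_) ((Submodule.span_singleton_le_iff_mem _ _).2
        (Submodule.subset_span ?_))
      · rintro _ ⟨M, rfl⟩
        set a := (M : Matrix (Fin (m + 1)) (Fin (m + 1)) F) *ᵥ ev 0 with ha
        have ha0 : a ≠ 0 := fun e => ev_ne_zero (0 : Fin (m + 1)) (by
          have := congrArg ((M⁻¹ : GL (Fin (m + 1)) F).1.mulVec) e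
          rw [ha, Matrix.mulVec_mulVec, Units.inv_mul, Matrix.one_mulVec, Matrix.mulVec_zero] at this
          exact this)
        have hmem : sqChar ψ c a ∈ K := Finset.mem_image_of_mem _ (Finset.mem_univ a)
        have hne := sqChar_ne_one h2 hψ hc ha0
        have hu : u (sqChar ψ c a) = ρ (mm (rep _ hmem hne)) w := dif_pos ⟨hmem, hne⟩
        obtain ⟨k, hk⟩ := Function.ne_iff.1 ha0
        have hr := hrep _ hmem hne
        set b := ((rep _ hmem hne : GL (Fin (m + 1)) F) : Matrix (Fin (m + 1)) (Fin (m + 1)) F) *ᵥ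
          ev 0 with hb
        have hkk := sqChar_eq_iff h2 hψ hr k k
        have hkl : ∀ l, b k * b l = a k * a l := fun l =>
          mul_left_cancel₀ hc (sqChar_eq_iff h2 hψ hr k l)
        rcases mul_self_eq_mul_self_iff.1 (mul_left_cancel₀ hc hkk) with e | e
        · obtain ⟨s, hs⟩ := translate_scalar h2 hψ hL hc hw hm hε M (rep _ hmem hne) (σ := 1)
            (Or.inl rfl) (by
              rw [one_smul, ← ha, ← hb]
              funext l
              refine (mul_left_cancel₀ hk ?_).symm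
              rw [← hkl l, e])
          change ρ (mm M) w ∈ _
          rw [hs, ← hu]
          exact Submodule.smul_mem _ _ (Submodule.subset_span (Finset.mem_image_of_mem u hmem))
        · obtain ⟨s, hs⟩ := translate_scalar h2 hψ hL hc hw hm hε M (rep _ hmem hne) (σ := -1)
            (Or.inr rfl) (by
              rw [← ha, ← hb]
              funext l
              have e' := hkl l
              rw [e] at e'
              simp
              refine mul_left_cancel₀ hk ?_
              linear_combination -e')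
          change ρ (mm M) w ∈ _
          rw [hs, ← hu]
          exact Submodule.smul_mem _ _ (Submodule.subset_span (Finset.mem_image_of_mem u hmem))
      · have h1 : (1 : AddChar (symMat (m + 1) F) ℂ) ∈ K :=
          Finset.mem_image.2 ⟨0, Finset.mem_univ _, sqChar_vec_zero c⟩
        exact Finset.mem_image.2 ⟨1, h1, dif_neg fun h => h.2 rfl⟩
    have hdim : finrank ℂ X ≤ K.card :=
      (Submodule.finrank_mono hle).trans ((finrank_span_finset_le_card _).trans Finset.card_image_le)
    refine (Nat.mul_le_mul_left 2 hdim).trans ?_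
    have hcard : Fintype.card (Fin (m + 1) → F) = Fintype.card F ^ (m + 1) := by simp
    rw [← hcard, ← Finset.card_univ,
      Finset.card_eq_sum_card_fiberwise (f := sqChar ψ c) (t := K)
        (fun a _ => Finset.mem_image_of_mem _ (Finset.mem_univ a))]
    have h1 : (1 : AddChar (symMat (m + 1) F) ℂ) ∈ K :=
      Finset.mem_image.2 ⟨0, Finset.mem_univ _, sqChar_vec_zero c⟩
    rw [← Finset.add_sum_erase _ _ h1, ← Finset.card_erase_add_one h1]
    have hfib : ∀ χ ∈ K.erase 1,
        2 ≤ (Finset.univ.filter fun a : Fin (m + 1) → F => sqChar ψ c a = χ).card := by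
      intro χ hχ
      obtain ⟨a, -, rfl⟩ := Finset.mem_image.1 (Finset.mem_of_mem_erase hχ)
      have ha0 : a ≠ 0 := fun e => Finset.ne_of_mem_erase hχ (by rw [e, sqChar_vec_zero])
      have hne : a ≠ -a := fun e => ha0 (funext fun l => by
        have e1 := congrFun e l
        rw [Pi.neg_apply] at e1
        exact (mul_eq_zero.1 (show (2 : F) * a l = 0 by linear_combination e1)).resolve_left h2)
      refine le_trans (le_of_eq (Finset.card_pair hne).symm) (Finset.card_le_card ?_)
      intro b hb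
      rcases Finset.mem_insert.1 hb with rfl | hb
      · simp
      · rw [Finset.mem_singleton.1 hb]
        simp [sqChar_neg]
    have hsum := Finset.card_nsmul_le_sum _ _ 2 hfib
    have hone : 1 ≤ (Finset.univ.filter fun a : Fin (m + 1) → F =>
        sqChar ψ c a = (1 : AddChar (symMat (m + 1) F) ℂ)).card :=
      Finset.card_pos.2 ⟨0, by simp [sqChar_vec_zero]⟩
    simp only [smul_eq_mul] at hsum
    omega
  · intro χ h1 hcl x hx
    have hle : X ≤ LinearMap.ker (proj ρ siegel χ) := sup_le (Submodule.span_le.2 (by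
        rintro _ ⟨M, rfl⟩
        exact proj_eq_zero ρ (hcl _) (eigen_mm_sq ρ ψ M hw)))
      ((Submodule.span_singleton_le_iff_mem _ _).2
        (proj_eq_zero ρ h1 (proj_mem ρ siegel _ _)))
    exact hle hx

end CfsgLib.Classical.SpWeilGap
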