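import Cfsg.Agent.Lib.Classical.SpWeilGap.Orbit
import Cfsg.Agent.Lib.Classical.SpWeilGap.Space
import Cfsg.Agent.Lib.Char.Monomial

/-!
# Irreducible representations of `Sp_{2n}(F)` of low rank: at most one for each class and central sign
-/

set_option autoImplicit false

namespace CfsgLib.Classical.SpWeilGap

open Matrix Module CfsgLib.Classical.SLMinDeg CfsgLib.Classical.SpMinDeg

variable {F : Type*} [Field F] {n : ℕ} {V : Type*} [AddCommGroup V] [Module ℂ V]
  {ρ : Representation ℂ (Matrix.symplecticGroup (Fin n) F) V} {ψ : AddChar F ℂ}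
  [Fintype (symMat n F)] [Fintype F]

/-- A representation of higher rank has large degree. -/
theorem high_rank_bound [FiniteDimensional ℂ V] (h2 : (2 : F) ≠ 0) (hψ : ψ.IsPrimitive)
    (hL : ¬ LowRank ρ ψ) :
    (Fintype.card F ^ n - 1) * (Fintype.card F ^ n - Fintype.card F) ≤
      2 * (Fintype.card F + 1) * finrank ℂ V := by
  classical
  choose Qf hsq hcross using exists_form (n := n) hψ
  set 𝒮 := Finset.univ.filter fun χ : AddChar (symMat n F) ℂ => eigen ρ siegel χ ≠ ⊥ with h𝒮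
  set T := 𝒮.image Qf with hT
  have hTc : SpMinDegOdd.Closed (T : Set (QuadraticForm F (Fin n → F))) := ⟨fun g hg Q hQ => by
    obtain ⟨χ, hχ, rfl⟩ := Finset.mem_image.1 (Finset.mem_coe.1 hQ)
    have hu : IsUnit (LinearMap.toMatrix' g) := Matrix.mulVec_injective_iff_isUnit.1
      (fun a b e => hg (by simpa [LinearMap.toMatrix'_mulVec] using e))
    refine Finset.mem_coe.2 (Finset.mem_image.2 ⟨actChar hu.unit⁻¹ χ,
      Finset.mem_filter.2 ⟨Finset.mem_univ _, actChar_ne_bot ρ _ (Finset.mem_filter.1 hχ).2⟩,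
      QuadraticMap.ext fun x => huniq hψ fun c => ?_⟩)
    rw [QuadraticMap.comp_apply, ← hsq, ← hsq]
    change χ (actSym hu.unit⁻¹ (sqElt x c)) = _
    rw [actSym_sqElt, inv_inv, IsUnit.unit_spec, LinearMap.toMatrix'_mulVec]⟩
  have hB : ∃ Q ∈ T, Two Q := by
    by_contra hall
    push Not at hall
    refine hL fun χ hχ => ?_
    obtain ⟨c, a, ha⟩ := exists_square_of_not_two h2
      (hall _ (Finset.mem_image_of_mem Qf (Finset.mem_filter.2 ⟨Finset.mem_univ χ, hχ⟩)))
    refine ⟨c, a, char_ext h2 fun l k r => ?_⟩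
    rw [hcross, sqChar_cross]
    congr 2
    simp only [QuadraticMap.polar, ha, dotProduct_add]
    ring
  refine (orbit_bound_two h2 n T hTc hB).trans (Nat.mul_le_mul_left _ ?_)
  calc T.card ≤ 𝒮.card := Finset.card_image_le
    _ = ∑ χ ∈ 𝒮, 1 := (Finset.card_eq_sum_ones _)
    _ ≤ ∑ χ ∈ 𝒮, eigDim ρ siegel χ := Finset.sum_le_sum fun χ hχ =>
        Nat.one_le_iff_ne_zero.2 fun e =>
          (Finset.mem_filter.1 hχ).2 (Submodule.finrank_eq_zero.1 e)
    _ ≤ ∑ χ, eigDim ρ siegel χ := Finset.sum_le_univ_sum_of_nonneg (fun _ => Nat.zero_le _)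
    _ = finrank ℂ V := (finrank_eq_sum_eigDim ρ siegel).symm

omit [Fintype (symMat n F)] [Fintype F] in
theorem mm_neg_one_central (g : Matrix.symplecticGroup (Fin n) F) :
    mm (-1 : GL (Fin n) F) * g = g * mm (-1 : GL (Fin n) F) :=
  Subtype.ext (by rw [Submonoid.coe_mul, Submonoid.coe_mul, mm_neg_one_val, neg_mul, one_mul, mul_neg, mul_one])

omit [Fintype (symMat n F)] [Fintype F] in
/-- The central element acts by a sign. -/
theorem central_sign [FiniteDimensional ℂ V] (hirr : ρ.IsIrreducible) :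
    ∃ ε : ℂ, (ε = 1 ∨ ε = -1) ∧ ∀ v, ρ (mm (-1 : GL (Fin n) F)) v = ε • v := by
  haveI := hirr
  haveI := CfsgLib.Char.nontrivial_of_isIrreducible ρ
  obtain ⟨ε, hε⟩ := CfsgLib.Char.exists_scalar_of_commute ρ (ρ (mm (-1 : GL (Fin n) F))) fun g => by
    rw [← Module.End.mul_eq_comp, ← Module.End.mul_eq_comp, ← map_mul, ← map_mul, mm_neg_one_central]
  have hv : ∀ v, ρ (mm (-1 : GL (Fin n) F)) v = ε • v := fun v => by rw [hε]; rfl
  obtain ⟨v, hv0⟩ := exists_ne (0 : V)
  refine ⟨ε, ?_, hv⟩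
  have e : ρ (mm (-1 : GL (Fin n) F)) (ρ (mm (-1 : GL (Fin n) F)) v) = v := by
    rw [← Module.End.mul_apply, ← map_mul, ← map_mul, neg_mul_neg, one_mul, map_one, map_one,
      Module.End.one_apply]
  rw [hv, hv, smul_smul] at e
  have e1 : ε * ε = 1 := smul_left_injective ℂ hv0 (e.trans (one_smul ℂ v).symm)
  exact mul_self_eq_one_iff.1 e1

omit [Fintype (symMat n F)] in
/-- A representation fixed by the Siegel radical is trivial. -/
theorem trivial_of_siegel (h2 : (2 : F) ≠ 0) (hn : 2 ≤ n)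
    (h : ∀ S v, ρ (siegel S) v = v) (g : Matrix.symplecticGroup (Fin n) F) (v : V) :
    ρ g v = v := by
  classical
  have hex : n = 2 → 3 ≤ Fintype.card F := fun _ => by
    have h := Finset.card_le_univ ({0, 1, -1} : Finset F)
    rwa [Finset.card_eq_three.2 ⟨0, 1, -1, zero_ne_one, (neg_ne_zero.2 one_ne_zero).symm,
      fun e => h2 (by rw [← one_add_one_eq_two]; exact eq_neg_iff_add_eq_zero.1 e), rfl⟩] at h
  let i : Fin n := ⟨0, by omega⟩
  set S := sqElt (ev i) (1 : F) with hS
  have hS0 : S ≠ 0 := fun e => by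
    have h := congrArg (fun M : symMat n F => M.1 i i) e
    simp [hS, sqElt, vecMulVec_apply, ev_self] at h
  have htop := eq_top_of_siegel hn hex (MonoidHom.ker ρ) hS0
    (MonoidHom.mem_ker.2 (LinearMap.ext fun v => h S v))
  have hg : g ∈ MonoidHom.ker ρ := htop ▸ Subgroup.mem_top g
  rw [MonoidHom.mem_ker.1 hg]
  rfl

omit [Fintype (symMat n F)] [Fintype F] in
/-- An irreducible representation with a fixed vector has degree one. -/
theorem finrank_one_of_fixed [FiniteDimensional ℂ V] (hirr : ρ.IsIrreducible) {v : V} (hv : v ≠ 0)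
    (h : ∀ g, ρ g v = v) : finrank ℂ V = 1 := by
  let U : Subrepresentation ρ := ⟨ℂ ∙ v, fun g w hw => by
    obtain ⟨s, rfl⟩ := Submodule.mem_span_singleton.1 hw
    rw [map_smul, h]
    exact hw⟩
  rcases hirr.eq_bot_or_eq_top U with e | e
  · exact absurd ((Submodule.span_singleton_eq_bot).1 (congrArg Subrepresentation.toSubmodule e)) hv
  · rw [← finrank_span_singleton (K := ℂ) hv,
      show (ℂ ∙ v) = (⊤ : Submodule ℂ V) from congrArg Subrepresentation.toSubmodule e, finrank_top]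

omit [Fintype F] in
theorem lowRank_prod {V' : Type*} [AddCommGroup V'] [Module ℂ V']
    {ρ' : Representation ℂ (Matrix.symplecticGroup (Fin n) F) V'} (hL : LowRank ρ ψ)
    (hL' : LowRank ρ' ψ) : LowRank (ρ.prod ρ') ψ := by
  intro χ hχ
  obtain ⟨⟨v, v'⟩, hv, hv0⟩ := (Submodule.ne_bot_iff _).1 hχ
  by_cases h : v = 0
  · refine hL' χ fun e => hv0 ?_
    have hm : v' ∈ eigen ρ' siegel χ := fun S => congrArg Prod.snd (hv S)
    rw [e, Submodule.mem_bot] at hm
    rw [h, hm]; rfl
  · refine hL χ fun e => h ?_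
    have hm : v ∈ eigen ρ siegel χ := fun S => congrArg Prod.fst (hv S)
    rwa [e, Submodule.mem_bot] at hm

section Succ

variable {m : ℕ} {W : Type*} [AddCommGroup W] [Module ℂ W] [FiniteDimensional ℂ W]
  {σ : Representation ℂ (Matrix.symplecticGroup (Fin (m + 1)) F) W}
  [Fintype (symMat (m + 1) F)]

/-- The class of the spectrum. -/
def HasClass (σ : Representation ℂ (Matrix.symplecticGroup (Fin (m + 1)) F) W) (ψ : AddChar F ℂ)
    (c : F) : Prop :=
  eigen σ siegel (sqChar ψ c (ev 0)) ≠ ⊥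

omit [FiniteDimensional ℂ W] [Fintype F] in
theorem hasClass_mul_sq {c t : F} (ht : t ≠ 0) :
    HasClass σ ψ (c * (t * t)) ↔ HasClass σ ψ c := by
  have key : ∀ {c t : F}, t ≠ 0 → HasClass σ ψ c → HasClass σ ψ (c * (t * t)) := by
    intro c t ht h
    obtain ⟨v, hv, hv0⟩ := (Submodule.ne_bot_iff _).1 h
    have e := eigen_mm_sq σ ψ (dd 0 (Units.mk0 t ht)) hv
    rw [show ((dd (0 : Fin (m + 1)) (Units.mk0 t ht) : GL (Fin (m + 1)) F) :
        Matrix (Fin (m + 1)) (Fin (m + 1)) F) *ᵥ ev 0 = t • ev 0 from by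
      rw [dd_mulVec]
      funext l
      rcases eq_or_ne l 0 with rfl | hl
      · simp [ev_self]
      · simp [ev_ne hl, hl], sqChar_smul] at e
    refine fun hb => hv0 ((σ.apply_bijective (mm (dd 0 (Units.mk0 t ht)))).1 ?_)
    rw [map_zero]
    rw [hb, Submodule.mem_bot] at e
    exact e
  refine ⟨fun h => ?_, key ht⟩
  have h' := key (inv_ne_zero ht) h
  rwa [show c * (t * t) * (t⁻¹ * t⁻¹) = c by field_simp] at h'

/-- A non-trivial irreducible representation of low rank has a class. -/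
theorem exists_class (h2 : (2 : F) ≠ 0) (hm : 1 ≤ m) (hirr : σ.IsIrreducible)
    (hdim : 2 ≤ finrank ℂ W) (hL : LowRank σ ψ) : ∃ c, c ≠ 0 ∧ HasClass σ ψ c := by
  classical
  by_contra hall
  push Not at hall
  haveI := hirr
  haveI := CfsgLib.Char.nontrivial_of_isIrreducible σ
  have h1 : ∀ S v, σ (siegel S) v = v := by
    intro S v
    conv_rhs => rw [eq_sum_proj σ siegel v]
    conv_lhs => rw [eq_sum_proj σ siegel v, map_sum]
    refine Finset.sum_congr rfl fun χ _ => ?_
    by_cases hz : proj σ siegel χ v = 0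
    · rw [hz, map_zero]
    rw [proj_mem σ siegel χ v S]
    obtain ⟨c, a, rfl⟩ := exists_of_proj_ne hL hz
    by_cases ha : a = 0
    · simp [ha, sqChar_vec_zero]
    by_cases hc : c = 0
    · simp [hc, sqChar_zero]
    obtain ⟨M, hM⟩ := exists_mulVec (o := (0 : Fin (m + 1))) ha
    have e := eigen_mm_sq σ ψ M⁻¹ (proj_mem σ siegel (sqChar ψ c a) v)
    rw [← hM, Matrix.mulVec_mulVec, Units.inv_mul, Matrix.one_mulVec, hM] at e
    exact absurd ((σ.apply_bijective (mm M⁻¹)).1 ((map_zero (σ (mm M⁻¹))).symm ▸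
      (show σ (mm M⁻¹) (proj σ siegel (sqChar ψ c a) v) = 0 by
        have hb := hall c hc
        simp only [HasClass, not_not] at hb
        simpa [hb] using e))) hz
  obtain ⟨v, hv⟩ := exists_ne (0 : W)
  have := finrank_one_of_fixed hirr hv fun g => trivial_of_siegel h2 (by omega) h1 g v
  omega

/-- Degree and uniqueness of the class. -/
theorem class_spec (h2 : (2 : F) ≠ 0) (hψ : ψ.IsPrimitive) (hm : 1 ≤ m) (hirr : σ.IsIrreducible)
    (hL : LowRank σ ψ) {c : F} (hc : c ≠ 0) (h : HasClass σ ψ c) :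
    2 * finrank ℂ W ≤ Fintype.card F ^ (m + 1) + 1 ∧
      ∀ d, d ≠ 0 → HasClass σ ψ d → ∃ t, t ≠ 0 ∧ d = c * (t * t) := by
  obtain ⟨w, hw, hw0⟩ := (Submodule.ne_bot_iff _).1 h
  obtain ⟨ε, -, hε⟩ := central_sign hirr
  obtain ⟨X, hX, hwX, hdim, hcl⟩ := exists_space h2 hψ hL hc hw hm ⟨ε, hε w⟩ hw0
  have htop : X = ⊤ := by
    let U : Subrepresentation σ := ⟨X, fun g w hw => hX g w hw⟩
    rcases hirr.eq_bot_or_eq_top U with e | e
    · exact absurd ((Submodule.mem_bot ℂ).1
        ((show X = ⊥ from congrArg Subrepresentation.toSubmodule e) ▸ hwX)) hw0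
    · exact congrArg Subrepresentation.toSubmodule e
  rw [htop, finrank_top] at hdim
  refine ⟨hdim, fun d hd hd' => ?_⟩
  obtain ⟨x, hx, hx0⟩ := (Submodule.ne_bot_iff _).1 hd'
  by_contra hno
  push Not at hno
  refine hx0 ?_
  rw [← proj_eq_self σ siegel hx]
  refine hcl _ (sqChar_ne_one h2 hψ hd (ev_ne_zero _)) (fun a e => ?_) x (htop ▸ Submodule.mem_top)
  have e' := sqChar_eq_iff h2 hψ e 0 0
  rw [ev_self, mul_one, mul_one] at e'
  exact hno (a 0) (fun e0 => hd (by rw [e', e0]; ring)) e'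

/-- Two representations with one class and one central sign have one character. -/
theorem character_eq {W' : Type*} [AddCommGroup W'] [Module ℂ W'] [FiniteDimensional ℂ W']
    {σ' : Representation ℂ (Matrix.symplecticGroup (Fin (m + 1)) F) W'}
    (h2 : (2 : F) ≠ 0) (hψ : ψ.IsPrimitive) (hm : 1 ≤ m) (hirr : σ.IsIrreducible)
    (hirr' : σ'.IsIrreducible) (hL : LowRank σ ψ) (hL' : LowRank σ' ψ) {c : F} (hc : c ≠ 0)
    (h : HasClass σ ψ c) (h' : HasClass σ' ψ c) {ε : ℂ}
    (hε : ∀ v, σ (mm (-1 : GL (Fin (m + 1)) F)) v = ε • v)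
    (hε' : ∀ v, σ' (mm (-1 : GL (Fin (m + 1)) F)) v = ε • v)
    (hbig : Fintype.card F ^ (m + 1) + 1 < 2 * (finrank ℂ W + finrank ℂ W')) :
    σ.character = σ'.character := by
  classical
  obtain ⟨w, hw, hw0⟩ := (Submodule.ne_bot_iff _).1 h
  obtain ⟨w', hw', hw0'⟩ := (Submodule.ne_bot_iff _).1 h'
  have hwp : (w, w') ∈ eigen (σ.prod σ') siegel (sqChar ψ c (ev 0)) := fun S =>
    Prod.ext (hw S) (hw' S)
  obtain ⟨X, hX, hwX, hdim, -⟩ := exists_space h2 hψ (lowRank_prod hL hL') hc hwp hm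
    ⟨ε, Prod.ext (hε w) (hε' w')⟩ (fun e => hw0 (congrArg Prod.fst e))
  have hXne : X ≠ ⊤ := fun e => by
    rw [e, finrank_top, Module.finrank_prod] at hdim
    omega
  let K : Subrepresentation σ := ⟨X.comap (LinearMap.inl ℂ W W'), fun g x hx => by
    rw [Submodule.mem_comap] at hx ⊢
    have e := hX g _ hx
    convert e using 1
    exact Prod.ext rfl (map_zero (σ' g)).symm⟩
  let K' : Subrepresentation σ' := ⟨X.comap (LinearMap.inr ℂ W W'), fun g x hx => by
    rw [Submodule.mem_comap] at hx ⊢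
    have e := hX g _ hx
    convert e using 1
    exact Prod.ext (map_zero (σ g)).symm rfl⟩
  let P : Subrepresentation σ := ⟨X.map (LinearMap.fst ℂ W W'), fun g x hx => by
    obtain ⟨z, hz, rfl⟩ := Submodule.mem_map.1 hx
    exact Submodule.mem_map.2 ⟨_, hX g z hz, rfl⟩⟩
  let P' : Subrepresentation σ' := ⟨X.map (LinearMap.snd ℂ W W'), fun g x hx => by
    obtain ⟨z, hz, rfl⟩ := Submodule.mem_map.1 hx
    exact Submodule.mem_map.2 ⟨_, hX g z hz, rfl⟩⟩
  have hP : ∀ x, ∃ z ∈ X, z.1 = x := by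
    intro x
    rcases hirr.eq_bot_or_eq_top P with e | e
    · exact absurd ((Submodule.mem_bot ℂ).1
        ((show X.map (LinearMap.fst ℂ W W') = ⊥ from congrArg Subrepresentation.toSubmodule e) ▸
          Submodule.mem_map_of_mem hwX)) hw0
    · exact Submodule.mem_map.1
        ((show X.map (LinearMap.fst ℂ W W') = ⊤ from congrArg Subrepresentation.toSubmodule e).symm ▸
          Submodule.mem_top)
  have hP' : ∀ x, ∃ z ∈ X, z.2 = x := by
    intro x
    rcases hirr'.eq_bot_or_eq_top P' with e | e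
    · exact absurd ((Submodule.mem_bot ℂ).1
        ((show X.map (LinearMap.snd ℂ W W') = ⊥ from congrArg Subrepresentation.toSubmodule e) ▸
          Submodule.mem_map_of_mem hwX)) hw0'
    · exact Submodule.mem_map.1
        ((show X.map (LinearMap.snd ℂ W W') = ⊤ from congrArg Subrepresentation.toSubmodule e).symm ▸
          Submodule.mem_top)
  have hK : ∀ x, ((x, 0) : W × W') ∈ X → x = 0 := by
    intro x hx
    rcases hirr.eq_bot_or_eq_top K with e | e
    · exact (Submodule.mem_bot ℂ).1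
        ((show X.comap (LinearMap.inl ℂ W W') = ⊥ from congrArg Subrepresentation.toSubmodule e) ▸
          Submodule.mem_comap.2 hx)
    refine absurd (Submodule.eq_top_iff'.2 fun z => ?_) hXne
    have hall : ∀ a, ((a, 0) : W × W') ∈ X := fun a => by
      have ha : a ∈ X.comap (LinearMap.inl ℂ W W') :=
        (show X.comap (LinearMap.inl ℂ W W') = ⊤ from congrArg Subrepresentation.toSubmodule e) ▸
          Submodule.mem_top
      exact ha
    obtain ⟨y, hy, hy2⟩ := hP' z.2
    have e1 : z = y + ((z.1 - y.1, 0) : W × W') := Prod.ext (by simp) (by simp [hy2])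
    rw [e1]
    exact X.add_mem hy (hall _)
  have hK' : ∀ x, ((0, x) : W × W') ∈ X → x = 0 := by
    intro x hx
    rcases hirr'.eq_bot_or_eq_top K' with e | e
    · exact (Submodule.mem_bot ℂ).1
        ((show X.comap (LinearMap.inr ℂ W W') = ⊥ from congrArg Subrepresentation.toSubmodule e) ▸
          Submodule.mem_comap.2 hx)
    refine absurd (Submodule.eq_top_iff'.2 fun z => ?_) hXne
    have hall : ∀ a, ((0, a) : W × W') ∈ X := fun a => by
      have ha : a ∈ X.comap (LinearMap.inr ℂ W W') :=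
        (show X.comap (LinearMap.inr ℂ W W') = ⊤ from congrArg Subrepresentation.toSubmodule e) ▸
          Submodule.mem_top
      exact ha
    obtain ⟨y, hy, hy2⟩ := hP z.1
    have e1 : z = y + ((0, z.2 - y.2) : W × W') := Prod.ext (by simp [hy2]) (by simp)
    rw [e1]
    exact X.add_mem hy (hall _)
  let τ : Representation ℂ (Matrix.symplecticGroup (Fin (m + 1)) F) X :=
    (⟨X, fun g w hw => hX g w hw⟩ : Subrepresentation (σ.prod σ')).toRepresentation
  have hb : Function.Bijective ((LinearMap.fst ℂ W W').comp X.subtype) := by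
    refine ⟨(LinearMap.ker_eq_bot).1 ((Submodule.eq_bot_iff _).2 fun z hz => ?_), fun x => ?_⟩
    · have hz1 : z.1.1 = 0 := hz
      refine Subtype.ext (Prod.ext hz1 (hK' _ ?_))
      rw [show ((0, z.1.2) : W × W') = z.1 from Prod.ext hz1.symm rfl]
      exact z.2
    · obtain ⟨z, hz, rfl⟩ := hP x
      exact ⟨⟨z, hz⟩, rfl⟩
  have hb' : Function.Bijective ((LinearMap.snd ℂ W W').comp X.subtype) := by
    refine ⟨(LinearMap.ker_eq_bot).1 ((Submodule.eq_bot_iff _).2 fun z hz => ?_), fun x => ?_⟩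
    · have hz2 : z.1.2 = 0 := hz
      refine Subtype.ext (Prod.ext (hK _ ?_) hz2)
      rw [show ((z.1.1, 0) : W × W') = z.1 from Prod.ext rfl hz2.symm]
      exact z.2
    · obtain ⟨z, hz, rfl⟩ := hP' x
      exact ⟨⟨z, hz⟩, rfl⟩
  let φ : τ.Equiv σ := Representation.Equiv.mk (LinearEquiv.ofBijective _ hb)
    (fun g => LinearMap.ext fun z => rfl)
  let φ' : τ.Equiv σ' := Representation.Equiv.mk (LinearEquiv.ofBijective _ hb')
    (fun g => LinearMap.ext fun z => rfl)
  rw [← Representation.char_iso φ, Representation.char_iso φ']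

end Succ

end CfsgLib.Classical.SpWeilGap
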