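import Cfsg.Agent.Lib.Classical.SpWeilGap.Basic

/-!
# Representations of `Sp_{2n}(F)` whose spectrum on the Siegel radical has rank at most one:
the Weyl element on the eigenlines
-/

set_option autoImplicit false

namespace CfsgLib.Classical.SpWeilGap

open Matrix Module CfsgLib.Classical.SLMinDeg CfsgLib.Classical.SpMinDeg

variable {F : Type*} [Field F] {n : ℕ}
  {V : Type*} [AddCommGroup V] [Module ℂ V]
  (ρ : Representation ℂ (Matrix.symplecticGroup (Fin n) F) V) (ψ : AddChar F ℂ)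

/-- The spectrum on the Siegel radical has rank at most one. -/
def LowRank : Prop :=
  ∀ χ : AddChar (symMat n F) ℂ, eigen ρ siegel χ ≠ ⊥ → ∃ c a, χ = sqChar ψ c a

/-- The transformed character. -/
def pullC (M : GL (Fin n) F) (χ : AddChar (symMat n F) ℂ) : AddChar (symMat n F) ℂ where
  toFun S := χ (pull M S)
  map_zero_eq_one' := by
    rw [show pull M (0 : symMat n F) = 0 from Subtype.ext (by simp [pull]),
      AddChar.map_zero_eq_one]
  map_add_eq_mul' S T := by
    rw [show pull M (S + T) = pull M S + pull M T from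
      Subtype.ext (by simp [pull, Matrix.mul_add, Matrix.add_mul]), AddChar.map_add_eq_mul]

theorem pullC_sqChar (M : GL (Fin n) F) (c : F) (a : Fin n → F) :
    pullC M (sqChar ψ c a) = sqChar ψ c ((M : Matrix (Fin n) (Fin n) F) *ᵥ a) :=
  DFunLike.ext _ _ fun S => sqChar_pull c a M S

theorem pullC_one (M : GL (Fin n) F) : pullC M (1 : AddChar (symMat n F) ℂ) = 1 :=
  DFunLike.ext _ _ fun _ => rfl

theorem pullC_injective (M : GL (Fin n) F) : Function.Injective (pullC M) := fun χ χ' e => by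
  refine DFunLike.ext _ _ fun S => ?_
  have h := DFunLike.congr_fun e (pull M⁻¹ S)
  change χ (pull M (pull M⁻¹ S)) = χ' (pull M (pull M⁻¹ S)) at h
  have e' : pull M (pull M⁻¹ S) = S := by
    refine Subtype.ext ?_
    simp only [pull]
    rw [← Matrix.mul_assoc, ← Matrix.mul_assoc, ← transpose_mul, Matrix.mul_assoc, Units.inv_mul,
      transpose_one, Matrix.one_mul, Matrix.mul_one]
  rwa [e'] at h

theorem eigen_mm (M : GL (Fin n) F) {χ : AddChar (symMat n F) ℂ} {v : V}
    (hv : v ∈ eigen ρ siegel χ) : ρ (mm M) v ∈ eigen ρ siegel (pullC M χ) := fun S => by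
  rw [← Module.End.mul_apply, ← map_mul, siegel_mul_mm, map_mul, Module.End.mul_apply, hv,
    map_smul]
  rfl

theorem eigen_mm_sq (M : GL (Fin n) F) {c : F} {a : Fin n → F} {v : V}
    (hv : v ∈ eigen ρ siegel (sqChar ψ c a)) :
    ρ (mm M) v ∈ eigen ρ siegel (sqChar ψ c ((M : Matrix (Fin n) (Fin n) F) *ᵥ a)) := by
  rw [← pullC_sqChar]
  exact eigen_mm ρ M hv

variable [Fintype (symMat n F)]

theorem proj_eq_zero {χ χ' : AddChar (symMat n F) ℂ} (h : χ' ≠ χ) {v : V}
    (hv : v ∈ eigen ρ siegel χ) : proj ρ siegel χ' v = 0 := by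
  obtain ⟨y, hy⟩ := DFunLike.exists_ne h
  have hcomm : proj ρ siegel χ' * ρ (siegel y) = ρ (siegel y) * proj ρ siegel χ' := by
    rw [proj, smul_mul_assoc, mul_smul_comm, Finset.sum_mul, Finset.mul_sum]
    congr 1
    refine Finset.sum_congr rfl fun x _ => ?_
    rw [smul_mul_assoc, mul_smul_comm, ← map_mul ρ, ← map_mul ρ, ← AddChar.map_add_eq_mul,
      ← AddChar.map_add_eq_mul, add_comm]
  have e := congrFun (congrArg DFunLike.coe hcomm) v
  rw [Module.End.mul_apply, Module.End.mul_apply, hv y, map_smul, proj_mem ρ siegel χ' v y,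
    ← sub_eq_zero, ← sub_smul, smul_eq_zero, sub_eq_zero] at e
  exact e.resolve_left hy.symm

theorem eq_of_proj {u u' : V}
    (h : ∀ χ : AddChar (symMat n F) ℂ, proj ρ siegel χ u = proj ρ siegel χ u') : u = u' := by
  rw [eq_sum_proj ρ siegel u, eq_sum_proj ρ siegel u', Finset.sum_congr rfl fun χ _ => h χ]

theorem proj_mm (M : GL (Fin n) F) (χ : AddChar (symMat n F) ℂ) (v : V) :
    proj ρ siegel (pullC M χ) (ρ (mm M) v) = ρ (mm M) (proj ρ siegel χ v) := by
  conv_lhs => rw [eq_sum_proj ρ siegel v]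
  rw [map_sum, map_sum, Finset.sum_eq_single χ
    (fun χ' _ hne => proj_eq_zero ρ (fun e => hne (pullC_injective M e).symm)
      (eigen_mm ρ M (proj_mem ρ siegel χ' v))) (by simp)]
  exact proj_eq_self ρ siegel (eigen_mm ρ M (proj_mem ρ siegel χ v))

theorem proj_siegel (χ : AddChar (symMat n F) ℂ) (S : symMat n F) (v : V) :
    proj ρ siegel χ (ρ (siegel S) v) = χ S • proj ρ siegel χ v := by
  conv_lhs => rw [eq_sum_proj ρ siegel v]
  rw [map_sum, map_sum, Finset.sum_eq_single χ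
    (fun χ' _ hne => by
      rw [proj_mem ρ siegel χ' _ S, map_smul,
        proj_eq_zero ρ hne.symm (proj_mem ρ siegel χ' _), smul_zero]) (by simp),
    proj_mem ρ siegel χ _ S, map_smul, proj_eq_self ρ siegel (proj_mem ρ siegel χ _)]

variable {ρ ψ}

theorem exists_of_proj_ne (hL : LowRank ρ ψ) {χ : AddChar (symMat n F) ℂ} {v : V}
    (h : proj ρ siegel χ v ≠ 0) : ∃ c a, χ = sqChar ψ c a :=
  hL χ fun e => h (by simpa [e] using proj_mem ρ siegel χ v)

variable [Fintype F] (h2 : (2 : F) ≠ 0) (hψ : ψ.IsPrimitive) (hL : LowRank ρ ψ)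
include h2 hψ hL

omit h2 hψ in
/-- The Weyl element respects the characters off its coordinate. -/
theorem sw_agree {i : Fin n} {χ χ' : AddChar (symMat n F) ℂ} {v : V}
    (hv : v ∈ eigen ρ siegel χ) (h : proj ρ siegel χ' (ρ (sw i) v) ≠ 0) (S : symMat n F)
    (hS : ∀ l, S.1 i l = 0) : χ S = χ' S := by
  have e : ρ (siegel S) (ρ (sw i) v) = χ S • ρ (sw i) v := by
    rw [← Module.End.mul_apply, ← map_mul, ← sw_comm_siegel i S hS, map_mul,
      Module.End.mul_apply, hv S, map_smul]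
  have e1 : proj ρ siegel χ' (ρ (siegel S) (ρ (sw i) v)) =
      χ' S • proj ρ siegel χ' (ρ (sw i) v) := proj_siegel ρ χ' S _
  rw [e, map_smul, ← sub_eq_zero, ← sub_smul, smul_eq_zero] at e1
  exact sub_eq_zero.1 (e1.resolve_right h)

/-- The characters met by the Weyl element. -/
theorem sw_supp {i : Fin n} {c : F} {a : Fin n → F} {χ' : AddChar (symMat n F) ℂ} {v : V}
    (hv : v ∈ eigen ρ siegel (sqChar ψ c a)) (h : proj ρ siegel χ' (ρ (sw i) v) ≠ 0) :
    ∃ d b, χ' = sqChar ψ d b ∧ ∀ l k, l ≠ i → k ≠ i → c * (a l * a k) = d * (b l * b k) := by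
  obtain ⟨d, b, rfl⟩ := exists_of_proj_ne hL h
  exact ⟨d, b, rfl, fun l k hl hk =>
    agree_off h2 hψ (sw_agree hL hv h) hl hk⟩

/-- Transvections fixing the vector of a character fix the eigenvectors. -/
theorem tv_fix {i k : Fin n} (hik : i ≠ k) {c : F} {a : Fin n → F} (ha : a k = 0) {v : V}
    (hv : v ∈ eigen ρ siegel (sqChar ψ c a)) (t : F) : ρ (mm (tv hik t)) v = v := by
  set v' := ρ (sw i) (ρ (mm (dd i (-1 : Fˣ))) v) with hv'
  have hvv : ρ (sw i) v' = v := by
    rw [hv', ← Module.End.mul_apply, ← Module.End.mul_apply, ← map_mul, ← map_mul, ← sw_sq,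
      mul_assoc, sw_four, map_one, Module.End.one_apply]
  have h3 : ρ (siegel (crossElt (ev i) (ev k) (-t))) v' = v' := by
    refine eq_of_proj ρ fun χ => ?_
    rw [proj_siegel]
    by_cases hz : proj ρ siegel χ v' = 0
    · rw [hz, smul_zero]
    obtain ⟨d, b, rfl, hb⟩ := sw_supp h2 hψ hL (eigen_mm_sq ρ ψ _ hv) hz
    have hbk := hb k k hik.symm hik.symm
    rw [dd_mulVec, Function.update_of_ne hik.symm, ha, mul_zero, mul_zero] at hbk
    have h0 : -t * (2 * d * b i * b k) = 0 := by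
      rcases mul_eq_zero.1 hbk.symm with e | e
      · simp [e]
      · simp [mul_self_eq_zero.1 e]
    rw [sqChar_cross_ev, h0, AddChar.map_zero_eq_one, one_smul]
  rw [← hvv, ← Module.End.mul_apply, ← map_mul,
    show mm (tv hik t) * sw i = sw i * siegel (crossElt (ev i) (ev k) (-t)) by
      rw [sw_mul_cross hik, neg_neg],
    map_mul, Module.End.mul_apply, h3]

omit [Fintype (symMat n F)] [Fintype F] h2 hψ hL in
theorem sw_mul_tv {i k : Fin n} (h : i ≠ k) (t : F) :
    sw i * mm (tv h t) = siegel (crossElt (ev i) (ev k) t) * sw i := by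
  have e := sw_mul_cross h (-t)
  rw [neg_neg] at e
  have e' : mm (tv h t) = sw i * siegel (crossElt (ev i) (ev k) (-t)) * (sw i)⁻¹ := by
    rw [e, mul_inv_cancel_right]
  have hp : pull (dd i (-1 : Fˣ)) (crossElt (ev i) (ev k) t) = crossElt (ev i) (ev k) (-t) := by
    refine Subtype.ext ?_
    ext a b
    simp [pull, dd, CfsgLib.Pres.SpN.dg_val, crossElt, Matrix.vecMulVec_apply, Matrix.mul_diagonal,
      Matrix.diagonal_mul, ev, Pi.single_apply, Function.update_apply]
    by_cases ha : a = i <;> by_cases hb : b = i <;> simp_all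
  have c := siegel_mul_mm (dd i (-1 : Fˣ)) (crossElt (ev i) (ev k) t)
  rw [hp, ← sw_sq] at c
  rw [e', ← mul_assoc, ← mul_assoc, ← c]
  simp only [mul_assoc, mul_inv_cancel, mul_one]

/-- A combination of the translates along a line. -/
noncomputable def vec (ρ : Representation ℂ (Matrix.symplecticGroup (Fin n) F) V) {i k : Fin n}
    (h : i ≠ k) (f : F → ℂ) (x : V) : V :=
  ∑ t : F, f t • ρ (mm (tv h t)) x

/-- The Fourier transform of the Weyl element. -/
noncomputable def kf (ψ : AddChar F ℂ) (c : F) (f : F → ℂ) : F → ℂ :=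
  fun u => ∑ t : F, f t * ψ (t * (2 * c * u))

omit [Fintype F] h2 hψ hL in
theorem tv_line {i k : Fin n} (h : i ≠ k) (t : F) :
    ((tv h t : GL (Fin n) F) : Matrix (Fin n) (Fin n) F) *ᵥ ev k = ev k + t • ev i := by
  rw [tv_mulVec, ev_self, mul_one]

omit h2 hψ hL in
theorem eigen_tv {i k : Fin n} (h : i ≠ k) (t : F) {c : F} {x : V}
    (hx : x ∈ eigen ρ siegel (sqChar ψ c (ev k))) :
    ρ (mm (tv h t)) x ∈ eigen ρ siegel (sqChar ψ c (ev k + t • ev i)) := by
  rw [← tv_line h]
  exact eigen_mm_sq ρ ψ _ hx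

omit hL in
theorem line_injective {i k : Fin n} (h : i ≠ k) {c : F} (hc : c ≠ 0) {t u : F}
    (e : sqChar ψ c (ev k + t • ev i) = sqChar ψ c (ev k + u • ev i)) : t = u := by
  have h1 := sqChar_eq_iff h2 hψ e k i
  simp only [Pi.add_apply, Pi.smul_apply, smul_eq_mul, ev_self, ev_ne h, ev_ne h.symm] at h1
  refine mul_left_cancel₀ hc ?_
  linear_combination h1

omit hL in
theorem proj_vec {i k : Fin n} (h : i ≠ k) {c : F} (hc : c ≠ 0) (f : F → ℂ) {x : V}
    (hx : x ∈ eigen ρ siegel (sqChar ψ c (ev k))) (u : F) :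
    proj ρ siegel (sqChar ψ c (ev k + u • ev i)) (vec ρ h f x) = f u • ρ (mm (tv h u)) x := by
  rw [vec, map_sum, Finset.sum_eq_single u
    (fun t _ ht => by
      rw [map_smul, proj_eq_zero ρ (fun e => ht (line_injective h2 hψ h hc e).symm)
        (eigen_tv h t hx), smul_zero]) (by simp),
    map_smul, proj_eq_self ρ siegel (eigen_tv h u hx)]

/-- The image of an eigenvector under the Weyl element is spread evenly along a line. -/
theorem sw_apply {i k : Fin n} (h : i ≠ k) {c : F} (hc : c ≠ 0) {x : V}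
    (hx : x ∈ eigen ρ siegel (sqChar ψ c (ev k))) :
    ρ (sw i) x = vec ρ h 1 (proj ρ siegel (sqChar ψ c (ev k)) (ρ (sw i) x)) := by
  classical
  set v := ρ (sw i) x with hv
  have hfix : ∀ t, ρ (mm (tv h t)) v = v := fun t => by
    have e := sw_mul_cross h (-t)
    rw [neg_neg] at e
    rw [hv, ← Module.End.mul_apply, ← map_mul, ← e, map_mul, Module.End.mul_apply, hx,
      sqChar_cross_ev, ev_ne h, ev_self]
    simp
  refine eq_of_proj ρ fun χ => ?_
  by_cases hχ : ∃ u : F, χ = sqChar ψ c (ev k + u • ev i)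
  · obtain ⟨u, rfl⟩ := hχ
    rw [proj_vec h2 hψ h hc 1 (proj_mem ρ siegel _ _) u, Pi.one_apply, one_smul, ← proj_mm,
      hfix, pullC_sqChar, tv_line]
  · push Not at hχ
    have hl : proj ρ siegel χ v = 0 := by
      by_contra hz
      obtain ⟨d, b, rfl, hb⟩ := sw_supp h2 hψ hL hx hz
      have hkk := hb k k h.symm h.symm
      rw [ev_self, mul_one, mul_one] at hkk
      have hbk : b k ≠ 0 := fun e => hc (by rw [hkk, e]; ring)
      have hb0 : ∀ l, l ≠ i → l ≠ k → b l = 0 := fun l hli hlk => by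
        have e := hb l k hli h.symm
        rw [ev_ne hlk, zero_mul, mul_zero] at e
        have hd : d ≠ 0 := fun e0 => hc (by rw [hkk, e0]; ring)
        exact (mul_eq_zero.1 ((mul_eq_zero.1 e.symm).resolve_left hd)).resolve_right hbk
      refine hχ (b i / b k) ?_
      have e : b = b k • (ev k + (b i / b k) • ev i) := by
        funext l
        rcases eq_or_ne l i with rfl | hli
        · simp [ev_self, ev_ne h]
          field_simp
        rcases eq_or_ne l k with rfl | hlk
        · simp [ev_self, ev_ne h.symm]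
        · simp [ev_ne hli, ev_ne hlk, hb0 l hli hlk]
      conv_lhs => rw [e, sqChar_smul, ← hkk]
    rw [hl, vec, map_sum]
    refine (Finset.sum_eq_zero fun t _ => ?_).symm
    rw [map_smul, proj_eq_zero ρ (hχ t) (eigen_tv h t (proj_mem ρ siegel _ _)), smul_zero]

/-- The Weyl element on the combinations. -/
theorem sw_vec {i k : Fin n} (h : i ≠ k) {c : F} (hc : c ≠ 0) (f : F → ℂ) {x : V}
    (hx : x ∈ eigen ρ siegel (sqChar ψ c (ev k))) :
    ρ (sw i) (vec ρ h f x) =
      vec ρ h (kf ψ c f) (proj ρ siegel (sqChar ψ c (ev k)) (ρ (sw i) x)) := by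
  set y := proj ρ siegel (sqChar ψ c (ev k)) (ρ (sw i) x) with hy
  have hym : y ∈ eigen ρ siegel (sqChar ψ c (ev k)) := proj_mem ρ siegel _ _
  have e : ∀ t, ρ (sw i) (ρ (mm (tv h t)) x) =
      ∑ u : F, ψ (t * (2 * c * u)) • ρ (mm (tv h u)) y := fun t => by
    rw [← Module.End.mul_apply, ← map_mul, sw_mul_tv h, map_mul, Module.End.mul_apply,
      sw_apply h2 hψ hL h hc hx, ← hy, vec, map_sum]
    refine Finset.sum_congr rfl fun u _ => ?_
    rw [Pi.one_apply, one_smul, eigen_tv h u hym, sqChar_cross_ev]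
    congr 2
    simp [ev_self, ev_ne h, ev_ne h.symm]
  rw [vec, map_sum]
  simp only [map_smul, e, Finset.smul_sum]
  rw [Finset.sum_comm, vec]
  refine Finset.sum_congr rfl fun u _ => ?_
  rw [kf, Finset.sum_smul]
  simp only [smul_smul]

omit hL in
/-- The radical element of the coordinate on the combinations. -/
theorem uu_vec {i k : Fin n} (h : i ≠ k) {c : F} (f : F → ℂ) {x : V}
    (hx : x ∈ eigen ρ siegel (sqChar ψ c (ev k))) (r : F) :
    ρ (siegel (sqElt (ev i) r)) (vec ρ h f x) =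
      vec ρ h (fun t => f t * ψ (r * (c * (t * t)))) x := by
  rw [vec, vec, map_sum]
  refine Finset.sum_congr rfl fun t _ => ?_
  rw [map_smul, eigen_tv h t hx, sqChar_sq, dot_ev, smul_smul]
  congr 3
  simp [ev_self, ev_ne h]

/-- The Weyl element is a multiple of the even spreading. -/
theorem sw_formula {i k : Fin n} (h : i ≠ k) {c : F} (hc : c ≠ 0) :
    ∃ κ : ℂ, ∀ x ∈ eigen ρ siegel (sqChar ψ c (ev k)), ρ (sw i) x = κ • vec ρ h 1 x := by
  classical
  set W := eigen ρ siegel (sqChar ψ c (ev k)) with hW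
  set L : V → V := fun x => proj ρ siegel (sqChar ψ c (ev k)) (ρ (sw i) x) with hL'
  have hLm : ∀ x, L x ∈ W := fun x => proj_mem ρ siegel _ _
  have hd : ∀ x, x = vec ρ h (Pi.single 0 1) x := fun x => by
    rw [vec, Finset.sum_eq_single 0 (fun t _ ht => by simp [ht]) (by simp),
      show tv h (0 : F) = 1 from Units.ext (by simp [tv_val]), map_one, map_one]
    simp
  have h0 : ∀ g : F → ℂ, ∀ x ∈ W, proj ρ siegel (sqChar ψ c (ev k)) (vec ρ h g x) = g 0 • x := by
    intro g x hx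
    have e := proj_vec h2 hψ h hc g hx 0
    rwa [zero_smul, add_zero, show tv h (0 : F) = 1 from Units.ext (by simp [tv_val]), map_one,
      map_one, Module.End.one_apply] at e
  let D : (F → ℂ) → F → ℂ := fun f t => f t * ψ (1 * (c * (t * t)))
  let f₀ : F → ℂ := Pi.single 0 1
  have hfour : ∀ x ∈ W, kf ψ c (kf ψ c (kf ψ c (kf ψ c f₀))) 0 • L (L (L (L x))) = x := by
    intro x hx
    have e : ρ (sw i * (sw i * (sw i * sw i))) x = x := by
      rw [sw_four, map_one, Module.End.one_apply]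
    rw [map_mul, map_mul, map_mul, Module.End.mul_apply, Module.End.mul_apply,
      Module.End.mul_apply] at e
    conv_lhs at e => arg 2; arg 2; arg 2; arg 2; rw [hd x]
    rw [sw_vec h2 hψ hL h hc _ hx, sw_vec h2 hψ hL h hc _ (hLm _),
      sw_vec h2 hψ hL h hc _ (hLm _), sw_vec h2 hψ hL h hc _ (hLm _)] at e
    have e' := congrArg (proj ρ siegel (sqChar ψ c (ev k))) e
    rwa [h0 _ _ (hLm _), proj_eq_self ρ siegel hx] at e'
  have hbraid : ∀ x ∈ W, kf ψ c (D (kf ψ c (D (kf ψ c (D f₀))))) 0 • L (L (L x)) = x := by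
    intro x hx
    have e : ρ (sw i * (siegel (sqElt (ev i) (1 : F)) * (sw i * (siegel (sqElt (ev i) 1) *
        (sw i * siegel (sqElt (ev i) 1)))))) x = x := by
      rw [sw_braid, map_one, Module.End.one_apply]
    simp only [map_mul, Module.End.mul_apply] at e
    conv_lhs at e => arg 2; arg 2; arg 2; arg 2; arg 2; arg 2; rw [hd x]
    rw [uu_vec h2 hψ h _ hx, sw_vec h2 hψ hL h hc _ hx, uu_vec h2 hψ h _ (hLm _),
      sw_vec h2 hψ hL h hc _ (hLm _), uu_vec h2 hψ h _ (hLm _),
      sw_vec h2 hψ hL h hc _ (hLm _)] at e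
    have e' := congrArg (proj ρ siegel (sqChar ψ c (ev k))) e
    rwa [h0 _ _ (hLm _), proj_eq_self ρ siegel hx] at e'
  obtain ⟨g4, hg4⟩ : ∃ g, g = kf ψ c (kf ψ c (kf ψ c (kf ψ c f₀))) 0 := ⟨_, rfl⟩
  obtain ⟨g3, hg3⟩ : ∃ g, g = kf ψ c (D (kf ψ c (D (kf ψ c (D f₀))))) 0 := ⟨_, rfl⟩
  rw [← hg4] at hfour
  rw [← hg3] at hbraid
  refine ⟨g3 * g4⁻¹, fun x hx => ?_⟩
  rw [sw_apply h2 hψ hL h hc hx, show (g3 * g4⁻¹) • vec ρ h (1 : F → ℂ) x =
    vec ρ h 1 ((g3 * g4⁻¹) • x) by
      simp [vec, Finset.smul_sum, map_smul]]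
  congr 1
  change L x = _
  by_cases hg : g4 = 0
  · have hx0 : x = 0 := by rw [← hfour x hx, hg, zero_smul]
    simp [L, hx0]
  have e1 : g3 • L (L (L (L x))) = L x := hbraid (L x) (hLm x)
  rw [← e1, ← smul_smul]
  congr 1
  rw [eq_inv_smul_iff₀ hg]
  exact hfour x hx

/-- The torus element of the coordinate preserves the eigenlines. -/
theorem dd_scalar {i k : Fin n} (h : i ≠ k) {c : F} (hc : c ≠ 0) (r : Fˣ) {x : V}
    (hx : x ∈ eigen ρ siegel (sqChar ψ c (ev k))) : ∃ s : ℂ, ρ (mm (dd i r)) x = s • x := by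
  classical
  obtain ⟨κ, hκ⟩ := sw_formula h2 hψ hL h hc
  have hs : ∀ y : V, (∃ f, y = vec ρ h f x) → ∃ f, ρ (sw i) y = vec ρ h f x := by
    rintro y ⟨f, rfl⟩
    refine ⟨fun t => κ * kf ψ c f t, ?_⟩
    rw [sw_vec h2 hψ hL h hc f hx]
    have e : proj ρ siegel (sqChar ψ c (ev k)) (ρ (sw i) x) = κ • x := by
      have e' := proj_vec h2 hψ h hc (1 : F → ℂ) hx 0
      rw [zero_smul, add_zero, show tv h (0 : F) = 1 from Units.ext (by simp [tv_val]), map_one,
        map_one, Module.End.one_apply, Pi.one_apply, one_smul] at e'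
      rw [hκ x hx, map_smul, e']
    rw [e]
    simp [vec, map_smul, smul_smul, mul_comm]
  have hu : ∀ (s : F) (y : V), (∃ f, y = vec ρ h f x) →
      ∃ f, ρ (siegel (sqElt (ev i) s)) y = vec ρ h f x := by
    rintro s y ⟨f, rfl⟩
    exact ⟨_, uu_vec h2 hψ h f hx s⟩
  obtain ⟨f, hf⟩ : ∃ f, ρ (mm (dd i r)) x = vec ρ h f x := by
    rw [mm_dd_eq]
    simp only [map_mul, Module.End.mul_apply]
    refine hu _ _ (hs _ (hu _ _ (hs _ (hs _ (hs _ (hu _ _ (hs _ (hs _ (hs _ ?_)))))))))
    exact ⟨Pi.single 0 1, by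
      rw [vec, Finset.sum_eq_single 0 (fun t _ ht => by simp [ht]) (by simp),
        show tv h (0 : F) = 1 from Units.ext (by simp [tv_val]), map_one, map_one]
      simp⟩
  have hmem : ρ (mm (dd i r)) x ∈ eigen ρ siegel (sqChar ψ c (ev k)) := by
    have e := eigen_mm_sq ρ ψ (dd i r) hx
    rwa [dd_mulVec, ev_ne h, mul_zero, show Function.update (ev k : Fin n → F) i 0 = ev k from
      Function.update_eq_self_iff.2 (ev_ne h).symm] at e
  refine ⟨f 0, ?_⟩
  have e := proj_vec h2 hψ h hc f hx 0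
  rw [zero_smul, add_zero, show tv h (0 : F) = 1 from Units.ext (by simp [tv_val]), map_one,
    map_one, Module.End.one_apply, ← hf, proj_eq_self ρ siegel hmem] at e
  exact e

end CfsgLib.Classical.SpWeilGap
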