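import Cfsg.Agent.Lib.Classical.SpWeilRep
import Cfsg.Agent.Lib.Classical.SpWeilGap.Classes

/-!
# The two constituents of the Weil representation of `Sp_{2n}(q)`, `q` odd
-/

set_option autoImplicit false

namespace CfsgLib.Classical.SpWeilGap

open Matrix Module CfsgLib.Classical.SLMinDeg CfsgLib.Classical.SpMinDeg
open CfsgLib.Classical.SpWeil (Fn W Intertwines P evenFn oddFn)

variable {F : Type*} [Field F] [Fintype F] {n : ℕ} {ψ : AddChar F ℂ}

/-- The Weil representation. -/
theorem exists_weilRep (h2 : (2 : F) ≠ 0) (hn : 2 ≤ n) (hψ : ψ.IsPrimitive) :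
    ∃ ω : Representation ℂ (Matrix.symplecticGroup (Fin n) F) (Fn n F),
      ∀ g, Intertwines ψ g (ω g) ∧ ω g * P = P * ω g := by
  classical
  choose U hU hUinj using SpWeil.exists_intertwiner (n := n) ψ h2 hψ
  have hne : ∀ {T : Module.End ℂ (Fn n F)}, Function.Injective T → T ≠ 0 := fun {T} hT e => by
    have h1 : (Pi.single 0 1 : Fn n F) = 0 := hT (by rw [e]; rfl)
    simpa using congrFun h1 0
  have hcomp : ∀ g h : Matrix.symplecticGroup (Fin n) F, ∃ α : ℂ, α ≠ 0 ∧
      U g * U h = α • U (g * h) := by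
    intro g h
    have hgh : Intertwines ψ (g * h) (U g * U h) := fun v => by
      rw [mul_assoc, hU h v, ← mul_assoc, hU g, mul_assoc, Matrix.mulVec_mulVec]
      rfl
    obtain ⟨α, hα⟩ := SpWeil.intertwiner_unique ψ hψ (hU _) (hUinj _) hgh
    refine ⟨α, fun e => ?_, hα⟩
    rw [e, zero_smul] at hα
    exact hne (T := U g * U h) (fun a b e => hUinj h (hUinj g e)) hα
  have hperf := CfsgLib.Classical.commutator_symplecticGroup (F := F) n (by
    rcases (show n = 2 ∨ 3 ≤ n by omega) with h | h
    · refine Or.inr (Or.inl ⟨h, ?_⟩)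
      have h3 := Finset.card_le_univ ({0, 1, -1} : Finset F)
      rwa [Finset.card_eq_three.2 ⟨0, 1, -1, zero_ne_one, (neg_ne_zero.2 one_ne_zero).symm,
        fun e => h2 (by rw [← one_add_one_eq_two]; exact eq_neg_iff_add_eq_zero.1 e), rfl⟩] at h3
    · exact Or.inl h)
  -- the intertwiners commute with parity
  have hP : ∀ g, U g * P = P * U g := by
    have hl : ∀ g, ∃ l : ℂ, P * U g * P = l • U g := fun g => by
      refine SpWeil.intertwiner_unique ψ hψ (hU g) (hUinj g) fun v => ?_
      rw [mul_assoc, SpWeil.P_mul_W, ← mul_assoc, mul_assoc P, hU g, Matrix.mulVec_neg, ← mul_assoc,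
        SpWeil.P_mul_W, neg_neg, mul_assoc, mul_assoc, mul_assoc]
    choose l hl using hl
    have hmul : ∀ g h, l g * l h = l (g * h) := by
      intro g h
      obtain ⟨α, hα0, hα⟩ := hcomp g h
      have e1 : (P * U g * P) * (P * U h * P) = P * (U g * U h) * P := by
        rw [mul_assoc (P * U g), ← mul_assoc P (P * U h), ← mul_assoc P P, SpWeil.P_mul_P, one_mul]
        simp only [mul_assoc]
      rw [hl, hl, smul_mul_smul_comm, hα, mul_smul_comm, smul_mul_assoc, hl] at e1
      refine smul_left_injective ℂ (hne (T := U g * U h) fun a b e => hUinj h (hUinj g e)) ?_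
      change (l g * l h) • (U g * U h) = l (g * h) • (U g * U h)
      rw [hα]
      exact e1.trans (smul_comm _ _ _)
    have hsq : ∀ g, l g * l g = 1 := fun g => by
      refine smul_left_injective ℂ (hne (hUinj g)) ?_
      simp only [one_smul]
      rw [← smul_smul, ← hl g, ← smul_mul_assoc, ← mul_smul_comm, ← hl g]
      simp only [← mul_assoc, SpWeil.P_mul_P, one_mul]
      rw [mul_assoc, SpWeil.P_mul_P, mul_one]
    let φ : Matrix.symplecticGroup (Fin n) F →* ℂˣ := MonoidHom.mk'
      (fun g => Units.mk0 (l g) fun e => by simpa [e] using hsq g)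
      fun g h => Units.ext (hmul g h).symm
    intro g
    have h1 : l g = 1 := congrArg Units.val (MonoidHom.mem_ker.1
      (Abelianization.commutator_subset_ker φ (hperf.symm ▸ Subgroup.mem_top g)))
    have h := hl g
    rw [h1, one_smul] at h
    conv_lhs => rw [← h]
    rw [mul_assoc, SpWeil.P_mul_P, mul_one]
  have he : ∀ g, ∀ x ∈ evenFn n F, U g x ∈ evenFn n F := fun g => SpWeil.restrict_even (hP g)
  have ho : ∀ g, ∀ x ∈ oddFn n F, U g x ∈ oddFn n F := fun g => SpWeil.restrict_odd (hP g)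
  let de : Matrix.symplecticGroup (Fin n) F → ℂ := fun g => LinearMap.det ((U g).restrict (he g))
  let dodd : Matrix.symplecticGroup (Fin n) F → ℂ := fun g => LinearMap.det ((U g).restrict (ho g))
  have hde : ∀ g, de g ≠ 0 := fun g => SpWeil.det_ne_zero_of_injective fun x y e =>
    Subtype.ext (hUinj g (congrArg Subtype.val e))
  have hdo : ∀ g, dodd g ≠ 0 := fun g => SpWeil.det_ne_zero_of_injective fun x y e =>
    Subtype.ext (hUinj g (congrArg Subtype.val e))
  have hd := (SpWeil.finrank_parts (n := n) (F := F) h2).1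
  let s : Matrix.symplecticGroup (Fin n) F → ℂ := fun g => de g / dodd g
  have hρ : ∀ g h, ((s g)⁻¹ • U g) * ((s h)⁻¹ • U h) = (s (g * h))⁻¹ • U (g * h) := by
    intro g h
    obtain ⟨α, hα0, hα⟩ := hcomp g h
    have h1 : de g * de h = α ^ finrank ℂ (evenFn n F) * de (g * h) :=
      SpWeil.det_restrict_mul (evenFn n F) hα (he g) (he h) (he _)
    have h3 : dodd g * dodd h = α ^ finrank ℂ (oddFn n F) * dodd (g * h) :=
      SpWeil.det_restrict_mul (oddFn n F) hα (ho g) (ho h) (ho _)
    have hs : s g * s h = α * s (g * h) := by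
      simp only [s]
      rw [div_mul_div_comm, h1, h3, hd, pow_succ]
      have := hdo (g * h)
      have := pow_ne_zero (finrank ℂ (oddFn n F)) hα0
      field_simp
    rw [smul_mul_smul_comm, hα, smul_smul]
    congr 1
    rw [← mul_inv, hs, mul_inv]
    field_simp
  have hone : (s 1)⁻¹ • U 1 = 1 := by
    have hinj : Function.Injective ((s 1)⁻¹ • U 1 : Module.End ℂ (Fn n F)) := fun x y e =>
      hUinj 1 (smul_right_injective _ (inv_ne_zero (div_ne_zero (hde 1) (hdo 1))) e)
    refine LinearMap.ext fun x => hinj ?_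
    rw [Module.End.one_apply, ← Module.End.mul_apply, hρ, one_mul]
  refine ⟨{ toFun := fun g => (s g)⁻¹ • U g, map_one' := hone, map_mul' := fun g h => (hρ g h).symm },
    fun g => ⟨fun v => ?_, ?_⟩⟩
  · change ((s g)⁻¹ • U g) * _ = _ * ((s g)⁻¹ • U g)
    rw [smul_mul_assoc, mul_smul_comm, hU g]
  · change ((s g)⁻¹ • U g) * _ = _ * ((s g)⁻¹ • U g)
    rw [smul_mul_assoc, mul_smul_comm, hP g]

variable {ω : Representation ℂ (Matrix.symplecticGroup (Fin n) F) (Fn n F)}

/-- Multiplication by the quadratic phase. -/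
noncomputable def phase (ψ : AddChar F ℂ) (S : symMat n F) : Module.End ℂ (Fn n F) where
  toFun f x := sqChar ψ (-(2 : F)⁻¹) x S * f x
  map_add' f g := by ext x; simp [mul_add]
  map_smul' c f := by ext x; simp [mul_left_comm]

omit [Fintype F] in
theorem intertwines_phase (h2 : (2 : F) ≠ 0) (S : symMat n F) :
    Intertwines ψ (siegel S) (phase ψ S) := by
  intro v
  have hg : SpWeil.bp ((siegel S).1 *ᵥ v) = SpWeil.bp v + S.1 *ᵥ SpWeil.ap v ∧
      SpWeil.ap ((siegel S).1 *ᵥ v) = SpWeil.ap v := by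
    rw [coe_siegel, fromBlocks_mulVec]
    refine ⟨?_, ?_⟩ <;> funext k <;>
      simp [SpWeil.bp, SpWeil.ap, Function.comp_def, Matrix.mulVec, dotProduct]
  refine LinearMap.ext fun f => funext fun x => ?_
  change sqChar ψ _ x S * W ψ v f x = W ψ _ (fun y => sqChar ψ _ y S * f y) x
  rw [SpWeil.W_apply, SpWeil.W_apply, hg.1, hg.2, sqChar_apply, sqChar_apply, ← mul_assoc,
    ← mul_assoc, ← AddChar.map_add_eq_mul, ← AddChar.map_add_eq_mul]
  congr 2
  simp only [dotProduct_add, add_dotProduct, Matrix.mulVec_add]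
  have e1 : ∀ a b : Fin n → F, (S.1 *ᵥ a) ⬝ᵥ b = a ⬝ᵥ (S.1 *ᵥ b) := fun a b => by
    rw [Matrix.dotProduct_mulVec, ← Matrix.mulVec_transpose, symMat_transpose]
  rw [e1, ← e1 x (SpWeil.ap v), dotProduct_comm (S.1 *ᵥ x) (SpWeil.ap v)]
  field_simp
  ring

theorem ap_elim (a b : Fin n → F) : SpWeil.ap (Sum.elim a b) = b := rfl

theorem bp_elim (a b : Fin n → F) : SpWeil.bp (Sum.elim a b) = a := rfl

omit [Fintype F] in
/-- The vectors fixed by the first Heisenberg operators live at the origin. -/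
theorem eq_zero_of_heis_fixed (hψ : ψ.IsPrimitive) {f : Fn n F}
    (h : ∀ b : Fin n → F, W ψ (Sum.elim b 0) f = f) {x : Fin n → F} (hx : x ≠ 0) : f x = 0 := by
  classical
  obtain ⟨i, hi⟩ := Function.ne_iff.1 hx
  by_contra hf
  refine hψ hi (DFunLike.ext _ _ fun r => ?_)
  have e := congrFun (h (Pi.single i r)) x
  rw [SpWeil.W_apply, show SpWeil.ap (Sum.elim (Pi.single i r) (0 : Fin n → F)) = 0 from rfl,
    show SpWeil.bp (Sum.elim (Pi.single i r) (0 : Fin n → F)) = Pi.single i r from rfl,
    zero_dotProduct, mul_zero, add_zero, add_zero, single_dotProduct] at e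
  rw [AddChar.mulShift_apply, AddChar.one_apply, mul_comm]
  exact mul_right_cancel₀ hf (e.trans (one_mul _).symm)

variable (h2 : (2 : F) ≠ 0) (hψ : ψ.IsPrimitive)
  (hω : ∀ g, Intertwines ψ g (ω g) ∧ ω g * P = P * ω g)
include h2 hψ hω

/-- The Siegel radical acts by the quadratic phases. -/
theorem weil_siegel (hn : 2 ≤ n) (S : symMat n F) : ω (siegel S) = phase ψ S := by
  classical
  set δ : Fn n F := Pi.single 0 1 with hδ
  have hphase : ∀ S, phase ψ S δ = δ := fun S => funext fun x => by
    change sqChar ψ _ x S * δ x = δ x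
    by_cases hx : x = 0
    · subst hx; simp [sqChar_apply]
    · simp [hδ, hx]
  have hinj : ∀ S, Function.Injective (phase ψ S : Module.End ℂ (Fn n F)) := fun S a b e =>
    funext fun x => mul_left_cancel₀ (AddChar.val_isUnit _ _).ne_zero (congrFun e x)
  have hex : ∀ S, ∃ μ : ℂ, ω (siegel S) = μ • phase ψ S := fun S =>
    SpWeil.intertwiner_unique ψ hψ (intertwines_phase h2 S) (hinj S) (hω _).1
  choose μ hμ using hex
  have hμδ : ∀ S, ω (siegel S) δ = μ S • δ := fun S => by
    rw [hμ, LinearMap.smul_apply, hphase]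
  have hδ0 : δ ≠ 0 := by simp [hδ]
  let μc : AddChar (symMat n F) ℂ :=
    { toFun := μ
      map_zero_eq_one' := smul_left_injective ℂ hδ0 (by
        change μ 0 • δ = (1 : ℂ) • δ
        rw [← hμδ, AddChar.map_zero_eq_one, map_one, Module.End.one_apply, one_smul])
      map_add_eq_mul' := fun S T => smul_left_injective ℂ hδ0 (by
        change μ (S + T) • δ = (μ S * μ T) • δ
        rw [← hμδ, AddChar.map_add_eq_mul, map_mul, Module.End.mul_apply, hμδ T, map_smul, hμδ S,
          smul_smul, mul_comm]) }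
  -- the Levi factor fixes the line at the origin
  have hinv : ∀ M S, μc (pull M S) = μc S := by
    intro M S
    have hfix : ∀ b : Fin n → F, W ψ (Sum.elim b 0) (ω (mm M) δ) = ω (mm M) δ := by
      intro b
      have e := LinearMap.congr_fun
        ((hω (mm M)).1 (Sum.elim ((M : Matrix (Fin n) (Fin n) F)ᵀ *ᵥ b) 0)) δ
      rw [Module.End.mul_apply, Module.End.mul_apply, mm_val, fromBlocks_mulVec] at e
      simp only [Sum.elim_comp_inl, Sum.elim_comp_inr, Matrix.mulVec_zero, add_zero,
        Matrix.zero_mulVec] at e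
      rw [Matrix.mulVec_mulVec] at e
      rw [← transpose_mul, Units.mul_inv, transpose_one, Matrix.one_mulVec] at e
      rw [← e]
      congr 1
      funext x
      rw [SpWeil.W_apply]
      by_cases hx : x = 0
      · subst hx
        simp [bp_elim, ap_elim, hδ]
      · simp [ap_elim, hδ, hx]
    have hline : ω (mm M) δ = (ω (mm M) δ) 0 • δ := funext fun x => by
      by_cases hx : x = 0
      · subst hx; simp [hδ]
      · simp [hδ, hx]
        exact eq_zero_of_heis_fixed hψ hfix hx
    have hν : (ω (mm M) δ) 0 ≠ 0 := fun e => hδ0 ((ω.apply_bijective (mm M)).1 (by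
      rw [map_zero, hline, e, zero_smul]))
    have e := congrArg (fun g => ω g δ) (siegel_mul_mm M S)
    simp only [map_mul, Module.End.mul_apply] at e
    rw [hμδ, map_smul, hline, map_smul, hμδ, smul_smul, smul_smul] at e
    have e' := smul_left_injective ℂ hδ0 e
    change μ (pull M S) = μ S
    exact mul_left_cancel₀ hν (by linear_combination -e')
  -- so it is trivial
  obtain ⟨Q, hQ, hQc⟩ := exists_form hψ μc
  have hQ0 : Q = 0 := by
    by_contra hne
    have hcl : SpMinDegOdd.Closed (({Q} : Finset _) : Set (QuadraticForm F (Fin n → F))) := by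
      refine ⟨fun g hg Q' hQ' => ?_⟩
      rw [Finset.coe_singleton, Set.mem_singleton_iff] at hQ' ⊢
      subst hQ'
      have hu : IsUnit (LinearMap.toMatrix' g) := Matrix.mulVec_injective_iff_isUnit.1
        (fun a b e => hg (by simpa [LinearMap.toMatrix'_mulVec] using e))
      let M : GL (Fin n) F := ((Matrix.isUnit_transpose _).2 hu).unit
      refine QuadraticMap.ext fun x => huniq hψ fun r => ?_
      rw [QuadraticMap.comp_apply, ← hQ, ← hQ, ← hinv M (sqElt x r)]
      congr 1
      refine Subtype.ext ?_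
      simp [pull, M, sqElt, Matrix.mul_vecMulVec, Matrix.vecMulVec_mul, LinearMap.toMatrix'_mulVec,
        Matrix.vecMul_transpose]
    have h := SpMinDegOdd.orbit_bound h2 n {Q} hcl ⟨Q, Finset.mem_singleton_self Q, hne⟩
    rw [Finset.card_singleton] at h
    have h9 : 3 ^ 2 ≤ Fintype.card F ^ n := by
      refine le_trans (Nat.pow_le_pow_left ?_ 2) (Nat.pow_le_pow_right Fintype.card_pos hn)
      have h3 := Finset.card_le_univ ({0, 1, -1} : Finset F)
      rwa [Finset.card_eq_three.2 ⟨0, 1, -1, zero_ne_one, (neg_ne_zero.2 one_ne_zero).symm,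
        fun e => h2 (by rw [← one_add_one_eq_two]; exact eq_neg_iff_add_eq_zero.1 e), rfl⟩] at h3
    omega
  have hμ1 : μc = 1 := char_ext h2 fun l k r => by
    rw [hQc, hQ0]
    simp [QuadraticMap.polar]
  rw [hμ, show μ S = 1 from DFunLike.congr_fun hμ1 S, one_smul]

/-- No vector other than zero is fixed by the whole group. -/
theorem weil_no_fixed (hn : 2 ≤ n) {f : Fn n F} (h : ∀ g, ω g f = f) : f = 0 := by
  classical
  have h0 : ∀ x, x ≠ 0 → f x = 0 := by
    intro x hx
    by_contra hf
    refine sqChar_ne_one h2 hψ (c := -(2 : F)⁻¹) (neg_ne_zero.2 (inv_ne_zero h2)) hx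
      (DFunLike.ext _ _ fun S => ?_)
    have e := congrFun (h (siegel S)) x
    rw [weil_siegel h2 hψ hω hn] at e
    rw [AddChar.one_apply]
    exact mul_right_cancel₀ hf (e.trans (one_mul _).symm)
  have hfix : ∀ b : Fin n → F, W ψ (Sum.elim b 0) f = f := fun b => funext fun x => by
    rw [SpWeil.W_apply]
    by_cases hx : x = 0
    · subst hx; simp [bp_elim, ap_elim]
    · simp [ap_elim, h0 x hx]
  funext x
  by_cases hx : x = 0
  swap
  · exact h0 x hx
  subst hx
  let i : Fin n := ⟨0, by omega⟩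
  have hJ := LinearMap.congr_fun
    ((hω ⟨Matrix.J (Fin n) F, SymplecticGroup.J_mem _ _⟩).1 (Sum.elim (ev i) 0)) f
  rw [Module.End.mul_apply, Module.End.mul_apply, h, hfix, h,
    show ((⟨Matrix.J (Fin n) F, SymplecticGroup.J_mem _ _⟩ : Matrix.symplecticGroup (Fin n) F) :
      Matrix (Fin n ⊕ Fin n) (Fin n ⊕ Fin n) F) = fromBlocks 0 (-1) 1 0 from rfl,
    fromBlocks_mulVec] at hJ
  have e := congrFun hJ 0
  rw [SpWeil.W_apply] at e
  simp [ap_elim, bp_elim, Matrix.one_mulVec] at e
  rw [h0 (ev i) (ev_ne_zero i)] at e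
  simpa using e

omit h2 hψ hω in
/-- A representation of small degree without fixed vectors is irreducible. -/
theorem irreducible_of_small {M : Type*} [AddCommGroup M] [Module ℂ M] [FiniteDimensional ℂ M]
    (σ : Representation ℂ (Matrix.symplecticGroup (Fin n) F) M) (h2 : (2 : F) ≠ 0) (hn : 2 ≤ n)
    (hfix : ∀ v, (∀ g, σ g v = v) → v = 0)
    (h0 : 0 < finrank ℂ M) (hle : finrank ℂ M ≤ (Fintype.card F ^ n - 1) / 2 + 1) :
    σ.IsIrreducible := by
  classical
  have hperf := CfsgLib.Classical.commutator_symplecticGroup (F := F) n (by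
    rcases (show n = 2 ∨ 3 ≤ n by omega) with h | h
    · refine Or.inr (Or.inl ⟨h, ?_⟩)
      have h3 := Finset.card_le_univ ({0, 1, -1} : Finset F)
      rwa [Finset.card_eq_three.2 ⟨0, 1, -1, zero_ne_one, (neg_ne_zero.2 one_ne_zero).symm,
        fun e => h2 (by rw [← one_add_one_eq_two]; exact eq_neg_iff_add_eq_zero.1 e), rfl⟩] at h3
    · exact Or.inl h)
  have hbound : ∀ p : Subrepresentation σ, p ≠ ⊥ →
      (Fintype.card F ^ n - 1) / 2 ≤ finrank ℂ p.toSubmodule := by
    intro p hp
    haveI : Nontrivial p.toSubmodule := Submodule.nontrivial_iff_ne_bot.2 fun e =>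
      hp (Subrepresentation.toSubmodule_injective e)
    obtain ⟨r, hr⟩ := CfsgLib.Char.exists_irreducible_subrep p.toRepresentation
    haveI := hr
    haveI := CfsgLib.Char.nontrivial_of_isIrreducible (V := ↥r.toSubmodule) r.toRepresentation
    obtain ⟨x, hx⟩ := exists_ne (0 : r.toSubmodule)
    have hmoved : ∃ g, r.toRepresentation g x ≠ x := by
      by_contra hall
      push Not at hall
      exact hx (Subtype.ext (Subtype.ext (hfix _ fun g =>
        congrArg (fun z : r.toSubmodule => (z.1 : M)) (hall g))))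
    obtain ⟨g, hg⟩ := hmoved
    have hd2 : 2 ≤ finrank ℂ r.toSubmodule := SpWeil.two_le_of_moved (M := ↥r.toSubmodule)
      r.toRepresentation (fun φ => MonoidHom.ext fun g =>
        MonoidHom.mem_ker.1 (Abelianization.commutator_subset_ker φ (hperf.symm ▸ Subgroup.mem_top g))) hg
    exact (SpMinDegOdd.min_degree_odd (V := ↥r.toSubmodule) r.toRepresentation h2 hn hr hd2).trans
      (Submodule.finrank_le r.toSubmodule)
  haveI : Nontrivial M := nontrivial_of_finrank_pos (R := ℂ) h0
  have hq : 9 ≤ Fintype.card F ^ n := by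
    refine le_trans (by norm_num) (le_trans (Nat.pow_le_pow_left (m := Fintype.card F) (n := 3) ?_ 2)
      (Nat.pow_le_pow_right Fintype.card_pos hn))
    have h3 := Finset.card_le_univ ({0, 1, -1} : Finset F)
    rwa [Finset.card_eq_three.2 ⟨0, 1, -1, zero_ne_one, (neg_ne_zero.2 one_ne_zero).symm,
      fun e => h2 (by rw [← one_add_one_eq_two]; exact eq_neg_iff_add_eq_zero.1 e), rfl⟩] at h3
  haveI : Nontrivial (Subrepresentation σ) := ⟨⟨⊥, ⊤, fun e => by
    have : (⊥ : Submodule ℂ M) = ⊤ := congrArg Subrepresentation.toSubmodule e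
    exact bot_ne_top this⟩⟩
  refine IsSimpleOrder.mk fun p => ?_
  by_contra hp
  push Not at hp
  obtain ⟨p', hp'⟩ := exists_isCompl p
  have hp'0 : p' ≠ ⊥ := fun e => hp.2 (by rw [e] at hp'; exact eq_top_of_isCompl_bot hp')
  have := CfsgLib.Char.finrank_compl p p' hp'
  have := hbound p hp.1
  have := hbound p' hp'0
  omega

omit h2 hψ hω in
/-- The two constituents: irreducible, with the class of `-1/2`. -/
theorem exists_constituents (h2 : (2 : F) ≠ 0) {m : ℕ} {ψ : AddChar F ℂ} (hψ : ψ.IsPrimitive)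
    {ω : Representation ℂ (Matrix.symplecticGroup (Fin (m + 1)) F) (Fn (m + 1) F)}
    (hω : ∀ g, Intertwines ψ g (ω g) ∧ ω g * P = P * ω g) (hm : 1 ≤ m) :
    ∃ (σo : Representation ℂ (Matrix.symplecticGroup (Fin (m + 1)) F) (oddFn (m + 1) F))
      (σe : Representation ℂ (Matrix.symplecticGroup (Fin (m + 1)) F) (evenFn (m + 1) F)),
      σo.IsIrreducible ∧ σe.IsIrreducible ∧ HasClass σo ψ (-(2 : F)⁻¹) ∧
        HasClass σe ψ (-(2 : F)⁻¹) := by
  classical
  have hd := SpWeil.finrank_parts (n := m + 1) (F := F) h2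
  let so : Subrepresentation ω :=
    ⟨oddFn (m + 1) F, fun g x hx => SpWeil.restrict_odd (hω g).2 x hx⟩
  let se : Subrepresentation ω :=
    ⟨evenFn (m + 1) F, fun g x hx => SpWeil.restrict_even (hω g).2 x hx⟩
  have hne : (ev (0 : Fin (m + 1)) : Fin (m + 1) → F) ≠ -ev 0 := fun e => by
    have h := congrFun e 0
    rw [Pi.neg_apply, ev_self] at h
    exact h2 (by linear_combination h)
  have hcl : ∀ s : ℂ, ((Pi.single (ev 0) 1 : Fn (m + 1) F) + s • Pi.single (-ev 0) 1) ∈
      eigen ω siegel (sqChar ψ (-(2 : F)⁻¹) (ev 0)) := by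
    intro s S
    rw [weil_siegel h2 hψ hω (by omega) S]
    funext x
    change sqChar ψ _ x S * _ = _
    by_cases h1 : x = ev 0
    · subst h1; simp [hne]
    by_cases h3 : x = -ev 0
    · subst h3; simp [hne.symm, sqChar_neg, mul_left_comm]
    · simp [h1, h3]
  have hirr : ∀ (U : Subrepresentation ω), 0 < finrank ℂ U.toSubmodule →
      finrank ℂ U.toSubmodule ≤ (Fintype.card F ^ (m + 1) - 1) / 2 + 1 →
      U.toRepresentation.IsIrreducible := fun U h0 hle =>
    irreducible_of_small (M := ↥U.toSubmodule) U.toRepresentation h2 (by omega) (fun v hv =>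
      Subtype.ext (weil_no_fixed h2 hψ hω (by omega) fun g => congrArg Subtype.val (hv g))) h0 hle
  have hq : 9 ≤ Fintype.card F ^ (m + 1) := by
    refine le_trans (by norm_num) (le_trans (Nat.pow_le_pow_left (m := Fintype.card F) (n := 3) ?_ 2)
      (Nat.pow_le_pow_right Fintype.card_pos (show 2 ≤ m + 1 by omega)))
    have h3 := Finset.card_le_univ ({0, 1, -1} : Finset F)
    rwa [Finset.card_eq_three.2 ⟨0, 1, -1, zero_ne_one, (neg_ne_zero.2 one_ne_zero).symm,
      fun e => h2 (by rw [← one_add_one_eq_two]; exact eq_neg_iff_add_eq_zero.1 e), rfl⟩] at h3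
  refine ⟨so.toRepresentation, se.toRepresentation,
    hirr so (show 0 < finrank ℂ (oddFn (m + 1) F) by omega)
      (show finrank ℂ (oddFn (m + 1) F) ≤ _ by omega),
    hirr se (show 0 < finrank ℂ (evenFn (m + 1) F) by omega)
      (show finrank ℂ (evenFn (m + 1) F) ≤ _ by omega), fun e => ?_, fun e => ?_⟩
  · have hmem : ((Pi.single (ev 0) 1 : Fn (m + 1) F) + (-1 : ℂ) • Pi.single (-ev 0) 1) ∈
        oddFn (m + 1) F := by
      rw [SpWeil.mem_oddFn]
      funext x
      simp [SpWeil.P_apply, Pi.single_apply, neg_eq_iff_eq_neg]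
    have h : (⟨_, hmem⟩ : oddFn (m + 1) F) ∈ eigen (so.toRepresentation) siegel
        (sqChar ψ (-(2 : F)⁻¹) (ev 0)) := fun S => Subtype.ext (hcl (-1) S)
    rw [e, Submodule.mem_bot] at h
    simpa [hne] using congrFun (congrArg Subtype.val h) (ev 0)
  · have hmem : ((Pi.single (ev 0) 1 : Fn (m + 1) F) + (1 : ℂ) • Pi.single (-ev 0) 1) ∈
        evenFn (m + 1) F := by
      rw [SpWeil.mem_evenFn]
      funext x
      simp [SpWeil.P_apply, Pi.single_apply, neg_eq_iff_eq_neg, add_comm]
    have h : (⟨_, hmem⟩ : evenFn (m + 1) F) ∈ eigen (se.toRepresentation) siegel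
        (sqChar ψ (-(2 : F)⁻¹) (ev 0)) := fun S => Subtype.ext (hcl 1 S)
    rw [e, Submodule.mem_bot] at h
    simpa [hne] using congrFun (congrArg Subtype.val h) (ev 0)

end CfsgLib.Classical.SpWeilGap
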