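import Cfsg.Prelude.Def_Characters
import Cfsg.Agent.Lib.Classical.SpWeilGap.Weil

/-!
# The Weil characters of `Sp_{2n}(q)`, `q` odd, and the degree gap above them
-/

set_option autoImplicit false

namespace CfsgLib.Classical.SpWeilGap

open Matrix Module CfsgLib.Classical.SLMinDeg CfsgLib.Classical.SpMinDeg

variable {F : Type*} [Field F] [Fintype F] {m : ℕ} [Fintype (symMat (m + 1) F)]
  {ψ : AddChar F ℂ}

/-- The multiplicity of the class of `c` read off from a character. -/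
noncomputable def classSum (ψ : AddChar F ℂ) (c : F)
    (χ : Matrix.symplecticGroup (Fin (m + 1)) F → ℂ) : ℂ :=
  ∑ S : symMat (m + 1) F, sqChar ψ c (ev 0) (-S) * χ (siegel S)

theorem hasClass_iff {W : Type*} [AddCommGroup W] [Module ℂ W] [FiniteDimensional ℂ W]
    (σ : Representation ℂ (Matrix.symplecticGroup (Fin (m + 1)) F) W) (c : F) :
    HasClass σ ψ c ↔ classSum ψ c σ.character ≠ 0 := by
  have h := eigDim_eq σ siegel (sqChar ψ c (ev 0))
  constructor
  · intro hc e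
    refine hc (Submodule.finrank_eq_zero.1 ?_)
    have h' : (eigDim σ siegel (sqChar ψ c (ev 0)) : ℂ) = 0 := by
      rw [h]; exact mul_eq_zero_of_right _ e
    exact_mod_cast h'
  · intro hc e
    refine hc ?_
    have h' : eigDim σ siegel (sqChar ψ c (ev 0)) = 0 := Submodule.finrank_eq_zero.2 e
    rw [h', Nat.cast_zero] at h
    exact (mul_eq_zero.1 h.symm).resolve_left
      (inv_ne_zero (Nat.cast_ne_zero.2 Fintype.card_ne_zero))

omit [Fintype (symMat (m + 1) F)] in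
theorem nine_le_pow (h2 : (2 : F) ≠ 0) (hm : 1 ≤ m) : 9 ≤ Fintype.card F ^ (m + 1) := by
  classical
  refine le_trans (by norm_num) (le_trans (Nat.pow_le_pow_left (m := Fintype.card F) (n := 3) ?_ 2)
    (Nat.pow_le_pow_right Fintype.card_pos (show 2 ≤ m + 1 by omega)))
  have h3 := Finset.card_le_univ ({0, 1, -1} : Finset F)
  rwa [Finset.card_eq_three.2 ⟨0, 1, -1, zero_ne_one, (neg_ne_zero.2 one_ne_zero).symm,
    fun e => h2 (by rw [← one_add_one_eq_two]; exact eq_neg_iff_add_eq_zero.1 e), rfl⟩] at h3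

theorem bound_arith' {q N : ℕ} (hq : 3 ≤ q) (hN : q * q ≤ N) {k : ℕ} (hk : 2 * k ≤ N + 1) :
    2 * (q + 1) * k < (N - 1) * (N - q) := by
  have h1 : 1 ≤ N := by nlinarith
  have h2 : q ≤ N := by nlinarith
  zify [h1, h2]
  have hk' : (2 : ℤ) * k ≤ N + 1 := by exact_mod_cast hk
  have hN' : (q : ℤ) * q ≤ N := by exact_mod_cast hN
  have hq' : (3 : ℤ) ≤ q := by exact_mod_cast hq
  have hA : ((q : ℤ) + 1) * (2 * k) ≤ ((q : ℤ) + 1) * (N + 1) :=
    mul_le_mul_of_nonneg_left hk' (by omega)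
  have hB : ((N : ℤ) - 1) * (q * q - q) ≤ ((N : ℤ) - 1) * (N - q) :=
    mul_le_mul_of_nonneg_left (by linarith) (by linarith)
  nlinarith [hA, hB, mul_le_mul_of_nonneg_left (show (9 : ℤ) ≤ N by nlinarith) (show (0 : ℤ) ≤ q * q - 2 * q - 1 by nlinarith)]

section Reps

variable {W : Type*} [AddCommGroup W] [Module ℂ W] [FiniteDimensional ℂ W]
  {σ : Representation ℂ (Matrix.symplecticGroup (Fin (m + 1)) F) W}

theorem lowRank_of_small (h2 : (2 : F) ≠ 0) (hψ : ψ.IsPrimitive) (hm : 1 ≤ m)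
    (hk : 2 * finrank ℂ W ≤ Fintype.card F ^ (m + 1) + 1) : LowRank σ ψ := by
  classical
  by_contra hL
  have h := high_rank_bound h2 hψ hL
  have h3 : 3 ≤ Fintype.card F := by
    have h3 := Finset.card_le_univ ({0, 1, -1} : Finset F)
    rwa [Finset.card_eq_three.2 ⟨0, 1, -1, zero_ne_one, (neg_ne_zero.2 one_ne_zero).symm,
      fun e => h2 (by rw [← one_add_one_eq_two]; exact eq_neg_iff_add_eq_zero.1 e), rfl⟩] at h3
  have := bound_arith' (q := Fintype.card F) (N := Fintype.card F ^ (m + 1)) h3 (by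
    rw [← pow_two]; exact Nat.pow_le_pow_right Fintype.card_pos (by omega)) hk
  omega

theorem class_of_nonsquare (h2 : (2 : F) ≠ 0) {ν : F} (hν : ¬ IsSquare ν) (hm : 1 ≤ m)
    (hirr : σ.IsIrreducible) (hdim : 2 ≤ finrank ℂ W) (hL : LowRank σ ψ)
    (h1 : ¬ HasClass σ ψ 1) : HasClass σ ψ ν := by
  classical
  obtain ⟨c, hc, h⟩ := exists_class h2 hm hirr hdim hL
  by_cases hcs : IsSquare c
  · obtain ⟨t, rfl⟩ := hcs
    have ht : t ≠ 0 := fun e => hc (by rw [e, mul_zero])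
    exact absurd ((hasClass_mul_sq (c := 1) ht).1 (by rwa [one_mul])) h1
  · have hν0 : ν ≠ 0 := fun e => hν (by rw [e]; exact ⟨0, (mul_zero 0).symm⟩)
    obtain ⟨t, ht⟩ : IsSquare (c / ν) := by
      have e1 := (quadraticChar_neg_one_iff_not_isSquare (F := F)).2 hcs
      have e3 := (quadraticChar_neg_one_iff_not_isSquare (F := F)).2 hν
      rw [← quadraticChar_one_iff_isSquare (div_ne_zero hc hν0)]
      have e5 : quadraticChar F c = quadraticChar F (c / ν) * quadraticChar F ν := by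
        rw [← map_mul, div_mul_cancel₀ _ hν0]
      rw [e1, e3] at e5
      linarith
    have ht0 : t ≠ 0 := fun e => div_ne_zero hc hν0 (by rw [ht, e, mul_zero])
    refine (hasClass_mul_sq (c := ν) ht0).1 ?_
    rwa [← ht, mul_div_cancel₀ _ hν0]

end Reps

/-- An irreducible character with its representation. -/
theorem irr_data (χ : Cfsg.IrrCharacter ↥(Matrix.symplecticGroup (Fin (m + 1)) F)) :
    ∃ (k : ℕ) (ρ : Representation ℂ (Matrix.symplecticGroup (Fin (m + 1)) F) (Fin k → ℂ)),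
      ρ.IsIrreducible ∧ ρ.character = χ.1 ∧ χ.1 1 = k ∧ finrank ℂ (Fin k → ℂ) = k := by
  obtain ⟨k, ρ, hρ, he⟩ := χ.2
  exact ⟨k, ρ, hρ, he, by rw [← he, Representation.char_one, Module.finrank_fin_fun],
    Module.finrank_fin_fun ℂ⟩

theorem main (h2 : (2 : F) ≠ 0) (hm : 1 ≤ m) :
    Nat.card {χ : Cfsg.IrrCharacter ↥(Matrix.symplecticGroup (Fin (m + 1)) F) //
      χ.1 1 = (((Fintype.card F ^ (m + 1) - 1) / 2 + 1 : ℕ) : ℂ)} = 2 ∧
    Nat.card {χ : Cfsg.IrrCharacter ↥(Matrix.symplecticGroup (Fin (m + 1)) F) //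
      χ.1 1 = (((Fintype.card F ^ (m + 1) - 1) / 2 : ℕ) : ℂ)} = 2 ∧
    ∀ (χ : Cfsg.IrrCharacter ↥(Matrix.symplecticGroup (Fin (m + 1)) F)) (k : ℕ), χ.1 1 = k → k ≠ 1 →
      k ≠ (Fintype.card F ^ (m + 1) - 1) / 2 + 1 → k ≠ (Fintype.card F ^ (m + 1) - 1) / 2 →
      (Fintype.card F ^ (m + 1) - 1) * (Fintype.card F ^ (m + 1) - Fintype.card F) ≤
        2 * (Fintype.card F + 1) * k := by
  classical
  obtain ⟨ψ, hψ⟩ : ∃ ψ : AddChar F ℂ, ψ.IsPrimitive := by
    obtain ⟨φ, hφ⟩ := AddChar.exists_apply_ne_zero.2 (one_ne_zero (α := F))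
    exact ⟨φ, AddChar.IsPrimitive.of_ne_one fun e => hφ (by simp [e])⟩
  obtain ⟨ν, hν⟩ := FiniteField.exists_nonsquare (F := F) (fun e => h2 (by
    have := ringChar.charP F
    rw [e] at this
    exact CharP.cast_eq_zero F 2))
  set d := (Fintype.card F ^ (m + 1) - 1) / 2 with hd
  have h9 := nine_le_pow (m := m) h2 hm
  have hodd : Fintype.card F ^ (m + 1) = 2 * d + 1 := by
    have h := SpWeil.finrank_parts (n := m + 1) (F := F) h2
    omega
  set G := ↥(Matrix.symplecticGroup (Fin (m + 1)) F) with hG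
  have hfinG : Finite G := Finite.of_injective _ Subtype.coe_injective
  let A : ℕ → Type _ := fun k => {χ : Cfsg.IrrCharacter G // χ.1 1 = (k : ℂ)}
  let z : Matrix.symplecticGroup (Fin (m + 1)) F := mm (-1 : GL (Fin (m + 1)) F)
  let Φ : A d ⊕ A (d + 1) → Bool × Bool := fun x =>
    (decide (classSum ψ 1 (Sum.elim (fun y => y.1.1) (fun y => y.1.1) x) ≠ 0),
      decide (Sum.elim (fun y => y.1.1) (fun y => y.1.1) x z =
        Sum.elim (fun y => y.1.1) (fun y => y.1.1) x (1 : G)))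
  have hval : ∀ x : A d ⊕ A (d + 1), ∃ k, (k = d ∨ k = d + 1) ∧
      (Sum.elim (fun y => y.1) (fun y => y.1) x : Cfsg.IrrCharacter G).1 1 = (k : ℂ) := by
    rintro (y | y)
    · exact ⟨d, Or.inl rfl, y.2⟩
    · exact ⟨d + 1, Or.inr rfl, y.2⟩
  have huniq : ∀ χ χ' : Cfsg.IrrCharacter G, ∀ k k', (k = d ∨ k = d + 1) → (k' = d ∨ k' = d + 1) →
      χ.1 1 = (k : ℂ) → χ'.1 1 = (k' : ℂ) →
      ((classSum ψ 1 χ.1 ≠ 0) ↔ (classSum ψ 1 χ'.1 ≠ 0)) →
      ((χ.1 z = χ.1 1) ↔ (χ'.1 z = χ'.1 1)) → χ = χ' := by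
    intro χ χ' k k' hk hk' hχ hχ' hcl hsg
    obtain ⟨a, ρ, hρ, hρc, hρ1, hρd⟩ := irr_data χ
    obtain ⟨a', ρ', hρ', hρc', hρ1', hρd'⟩ := irr_data χ'
    have hak : a = k := by exact_mod_cast hρ1.symm.trans hχ
    have hak' : a' = k' := by exact_mod_cast hρ1'.symm.trans hχ'
    have hL : LowRank ρ ψ := lowRank_of_small h2 hψ hm (by rw [hρd]; omega)
    have hL' : LowRank ρ' ψ := lowRank_of_small h2 hψ hm (by rw [hρd']; omega)
    obtain ⟨ε, hε1, hε⟩ := central_sign hρ
    obtain ⟨ε', hε1', hε'⟩ := central_sign hρ'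
    have hz : χ.1 z = ε * a := by
      rw [← hρc]
      change LinearMap.trace ℂ _ (ρ z) = _
      rw [show ρ z = ε • (1 : Module.End ℂ (Fin a → ℂ)) from LinearMap.ext hε, map_smul,
        LinearMap.trace_one, hρd, smul_eq_mul]
    have hz' : χ'.1 z = ε' * a' := by
      rw [← hρc']
      change LinearMap.trace ℂ _ (ρ' z) = _
      rw [show ρ' z = ε' • (1 : Module.End ℂ (Fin a' → ℂ)) from LinearMap.ext hε', map_smul,
        LinearMap.trace_one, hρd', smul_eq_mul]
    have hiff : ∀ {e : ℂ} {b : ℕ}, (e = 1 ∨ e = -1) → 0 < b → (e * b = b ↔ e = 1) := by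
      intro e b he hb
      refine ⟨fun h => ?_, fun h => by rw [h, one_mul]⟩
      exact mul_right_cancel₀ (Nat.cast_ne_zero.2 hb.ne') (h.trans (one_mul _).symm)
    rw [hz, hz', hρ1, hρ1', hiff hε1 (by omega), hiff hε1' (by omega)] at hsg
    have hee : ε' = ε := by
      rcases hε1 with rfl | rfl
      · exact hsg.1 rfl
      · rcases hε1' with rfl | rfl
        · exact (hsg.2 rfl).symm
        · rfl
    obtain ⟨c, hc, hc1, hc1'⟩ : ∃ c, c ≠ 0 ∧ HasClass ρ ψ c ∧ HasClass ρ' ψ c := by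
      by_cases h : HasClass ρ ψ 1
      · exact ⟨1, one_ne_zero, h, (hasClass_iff ρ' 1).2 (by
          rw [hρc']; exact hcl.1 (by rw [← hρc]; exact (hasClass_iff ρ 1).1 h))⟩
      · have h' : ¬ HasClass ρ' ψ 1 := fun h' => h ((hasClass_iff ρ 1).2 (by
          rw [hρc]; exact hcl.2 (by rw [← hρc']; exact (hasClass_iff ρ' 1).1 h')))
        exact ⟨ν, fun e => hν (by rw [e]; exact ⟨0, (mul_zero 0).symm⟩),
          class_of_nonsquare h2 hν hm hρ (by rw [hρd]; omega) hL h,
          class_of_nonsquare h2 hν hm hρ' (by rw [hρd']; omega) hL' h'⟩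
    refine Subtype.ext ?_
    rw [← hρc, ← hρc']
    exact character_eq h2 hψ hm hρ hρ' hL hL' hc hc1 hc1' hε (by rw [← hee]; exact hε')
      (by rw [hρd, hρd']; omega)
  have hΦ : Function.Injective Φ := by
    intro x x' e
    simp only [Φ, Prod.mk.injEq, decide_eq_decide] at e
    obtain ⟨k, hk, hkv⟩ := hval x
    obtain ⟨k', hk', hkv'⟩ := hval x'
    have key := huniq (Sum.elim (fun y => y.1) (fun y => y.1) x)
      (Sum.elim (fun y => y.1) (fun y => y.1) x') k k' hk hk' hkv hkv'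
      (by rcases x with x | x <;> rcases x' with x' | x' <;> exact e.1)
      (by rcases x with x | x <;> rcases x' with x' | x' <;> exact e.2)
    rcases x with x | x <;> rcases x' with x' | x'
    · exact congrArg Sum.inl (Subtype.ext key)
    · have h1 := x.2
      simp only [Sum.elim_inl, Sum.elim_inr] at key
      rw [key, x'.2] at h1
      norm_num at h1
    · have h1 := x.2
      simp only [Sum.elim_inl, Sum.elim_inr] at key
      rw [key, x'.2] at h1
      norm_num at h1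
    · exact congrArg Sum.inr (Subtype.ext key)
  have hfA : ∀ k, (k = d ∨ k = d + 1) → Finite (A k) := by
    rintro k (rfl | rfl)
    · exact Finite.of_injective (fun y => Φ (Sum.inl y)) fun a b e => Sum.inl_injective (hΦ e)
    · exact Finite.of_injective (fun y => Φ (Sum.inr y)) fun a b e => Sum.inr_injective (hΦ e)
  haveI := hfA d (Or.inl rfl)
  haveI := hfA (d + 1) (Or.inr rfl)
  have hle : Nat.card (A d) + Nat.card (A (d + 1)) ≤ 4 := by
    rw [← Nat.card_sum]
    exact (Nat.card_le_card_of_injective Φ hΦ).trans (by simp)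
  -- existence
  have hex : ∀ c : F, c ≠ 0 → ∀ k, (k = d ∨ k = d + 1) →
      ∃ χ : A k, classSum ψ c χ.1.1 ≠ 0 := by
    intro c hc k hk
    have hne : AddChar.mulShift ψ (-(2 * c)) ≠ 1 := hψ (neg_ne_zero.2 (mul_ne_zero h2 hc))
    set ψ' := AddChar.mulShift ψ (-(2 * c)) with hψ'
    have hprim : ψ'.IsPrimitive := AddChar.IsPrimitive.of_ne_one hne
    have hsq : sqChar ψ' (-(2 : F)⁻¹) (ev (0 : Fin (m + 1))) = sqChar ψ c (ev 0) :=
      DFunLike.ext _ _ fun S => by
        rw [sqChar_apply, sqChar_apply, hψ', AddChar.mulShift_apply]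
        congr 1
        field_simp
    obtain ⟨ω, hω⟩ := exists_weilRep (n := m + 1) h2 (by omega) hprim
    obtain ⟨σo, σe, ho, he, hco, hce⟩ := exists_constituents h2 hprim hω hm
    rw [HasClass, hsq] at hco hce
    have hfr := SpWeil.finrank_parts (n := m + 1) (F := F) h2
    haveI := ho
    haveI := he
    rcases hk with rfl | rfl
    · exact ⟨⟨⟨σo.character, CfsgLib.Char.isIrrCharacter_of_rep _⟩, by
        show σo.character 1 = _
        rw [Representation.char_one, show finrank ℂ (SpWeil.oddFn (m + 1) F) = d by omega]⟩,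
        (hasClass_iff σo c).1 hco⟩
    · exact ⟨⟨⟨σe.character, CfsgLib.Char.isIrrCharacter_of_rep _⟩, by
        show σe.character 1 = _
        rw [Representation.char_one, show finrank ℂ (SpWeil.evenFn (m + 1) F) = d + 1 by omega]⟩,
        (hasClass_iff σe c).1 hce⟩
  have htwo : ∀ k, (k = d ∨ k = d + 1) → 2 ≤ Nat.card (A k) := by
    intro k hk
    haveI := hfA k hk
    have hν0 : ν ≠ 0 := fun e => hν (by rw [e]; exact ⟨0, (mul_zero 0).symm⟩)
    obtain ⟨χ, hχ⟩ := hex 1 one_ne_zero k hk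
    obtain ⟨χ', hχ'⟩ := hex ν hν0 k hk
    have hne : χ ≠ χ' := by
      rintro rfl
      obtain ⟨a, ρ, hρ, hρc, hρ1, hρd⟩ := irr_data χ.1
      have hak : a = k := by exact_mod_cast hρ1.symm.trans χ.2
      have hL : LowRank ρ ψ := lowRank_of_small h2 hψ hm (by rw [hρd]; omega)
      obtain ⟨t, -, ht⟩ := (class_spec h2 hψ hm hρ hL one_ne_zero
        ((hasClass_iff ρ 1).2 (by rw [hρc]; exact hχ))).2 ν hν0
        ((hasClass_iff ρ ν).2 (by rw [hρc]; exact hχ'))
      exact hν ⟨t, by rw [ht, one_mul]⟩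
    exact Finite.one_lt_card_iff_nontrivial.2 ⟨χ, χ', hne⟩
  have t1 := htwo d (Or.inl rfl)
  have t2 := htwo (d + 1) (Or.inr rfl)
  refine ⟨show Nat.card (A (d + 1)) = 2 by omega, show Nat.card (A d) = 2 by omega,
    fun χ k hχ hk1 hk2 hk3 => ?_⟩
  obtain ⟨a, ρ, hρ, hρc, hρ1, hρd⟩ := irr_data χ
  have hak : a = k := by exact_mod_cast hρ1.symm.trans hχ
  subst hak
  haveI := hρ
  haveI := CfsgLib.Char.nontrivial_of_isIrreducible ρ
  have hpos : 0 < a := by
    have h := finrank_pos (R := ℂ) (M := Fin a → ℂ)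
    omega
  by_cases hL : LowRank ρ ψ
  · obtain ⟨c, hc, hcl⟩ := exists_class h2 hm hρ (by rw [hρd]; omega) hL
    have h1 := (class_spec h2 hψ hm hρ hL hc hcl).1
    rw [hρd] at h1
    have h3 := SpMinDegOdd.min_degree_odd ρ h2 (show 2 ≤ m + 1 by omega) hρ (by rw [hρd]; omega)
    rw [hρd] at h3
    omega
  · have h := high_rank_bound h2 hψ hL
    rwa [hρd] at h

end CfsgLib.Classical.SpWeilGap
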