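import Cfsg.Agent.Lib.Classical.SpMinDegOddOrbit
import Cfsg.Agent.Lib.Classical.SpMinDegOrbit

/-!
# Orbits of quadratic forms of rank at least two in odd characteristic

A set of quadratic forms on `F^n`, closed under linear substitutions and containing a form which is
not a multiple of the square of a linear form has at least `(q^n - 1)(q^n - q) / (2 (q + 1))`
members.
-/

set_option autoImplicit false

namespace CfsgLib.Classical.SpWeilGap

open QuadraticMap (polar)
open CfsgLib.Classical.SpMinDegOdd (Closed e0 inH outH block beta)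

variable {F : Type*} [Field F]

/-- The rank is at least two. -/
def Two {n : ℕ} (Q : QuadraticForm F (Fin n → F)) : Prop :=
  ∃ x y, polar Q x y * polar Q x y ≠ 4 * Q x * Q y

theorem four_ne_zero' (h2 : (2 : F) ≠ 0) : (4 : F) ≠ 0 := by
  rw [show (4 : F) = 2 * 2 by norm_num]; exact mul_ne_zero h2 h2

theorem exists_square_of_not_two (h2 : (2 : F) ≠ 0) {n : ℕ} {Q : QuadraticForm F (Fin n → F)}
    (h : ¬ Two Q) : ∃ (c : F) (a : Fin n → F), ∀ x, Q x = c * (a ⬝ᵥ x) ^ 2 := by
  classical
  by_cases h0 : ∀ x, Q x = 0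
  · exact ⟨0, 0, fun x => by simp [h0 x]⟩
  push Not at h0
  obtain ⟨x₀, hx₀⟩ := h0
  have key : ∀ x, polar Q x₀ x * polar Q x₀ x = 4 * Q x₀ * Q x := fun x => by
    by_contra hne
    exact h ⟨x₀, x, hne⟩
  refine ⟨(4 * Q x₀)⁻¹, fun i => polar Q x₀ (Pi.single i 1), fun x => ?_⟩
  have hlin : (fun i => polar Q x₀ (Pi.single i 1)) ⬝ᵥ x = polar Q x₀ x := by
    have e : polar Q x₀ x = QuadraticMap.polarBilin Q x₀ x := rfl
    conv_rhs => rw [e, pi_eq_sum_univ' x, map_sum]
    exact Finset.sum_congr rfl fun i _ => by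
      rw [map_smul, smul_eq_mul, mul_comm]; rfl
  rw [hlin, pow_two, key]
  have := four_ne_zero' h2
  field_simp

theorem two_comp {n : ℕ} {Q : QuadraticForm F (Fin n → F)} {g : (Fin n → F) →ₗ[F] (Fin n → F)}
    (hg : Function.Injective g) (h : Two Q) : Two (Q.comp g) := by
  obtain ⟨x, y, hxy⟩ := h
  obtain ⟨x', rfl⟩ := (LinearMap.injective_iff_surjective.1 hg) x
  obtain ⟨y', rfl⟩ := (LinearMap.injective_iff_surjective.1 hg) y
  exact ⟨x', y', by simpa [QuadraticMap.polar, QuadraticMap.comp_apply] using hxy⟩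

variable [Fintype F]

/-- A form of rank at least two takes every non-zero value. -/
theorem two_represents (h2 : (2 : F) ≠ 0) {n : ℕ} {Q : QuadraticForm F (Fin n → F)} (h : Two Q)
    (d : F) : ∃ z, Q z = d := by
  classical
  obtain ⟨x, y, hx, hxy⟩ : ∃ x y, Q x ≠ 0 ∧ polar Q x y * polar Q x y ≠ 4 * Q x * Q y := by
    obtain ⟨x, y, hxy⟩ := h
    by_cases hx : Q x ≠ 0
    · exact ⟨x, y, hx, hxy⟩
    by_cases hy : Q y ≠ 0
    · exact ⟨y, x, hy, by rw [QuadraticMap.polar_comm]; intro e; exact hxy (by rw [e]; ring)⟩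
    push Not at hx hy
    rw [hx, mul_zero, zero_mul] at hxy
    have hp : polar Q x y ≠ 0 := left_ne_zero_of_mul hxy
    refine ⟨x + y, y, ?_, ?_⟩
    · rw [QuadraticMap.map_add (Q : QuadraticMap F (Fin n → F) F), hx, hy, zero_add, zero_add]
      exact hp
    · rw [hy, mul_zero, QuadraticMap.polar_add_left, QuadraticMap.polar_self, hy, smul_zero,
        add_zero]
      exact hxy
  set y' := y - (polar Q x y / (2 * Q x)) • x with hy'
  have hval : ∀ s t : F, Q (s • x + t • y') =
      Q x * s ^ 2 + (Q y - polar Q x y ^ 2 / (4 * Q x)) * t ^ 2 := by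
    intro s t
    have e : Q y' = Q y - polar Q x y ^ 2 / (4 * Q x) := by
      rw [hy', sub_eq_add_neg, ← neg_smul,
        QuadraticMap.map_add (Q : QuadraticMap F (Fin n → F) F), QuadraticMap.map_smul,
        QuadraticMap.polar_smul_right, QuadraticMap.polar_comm Q y x]
      simp only [smul_eq_mul]
      have := four_ne_zero' h2
      field_simp
      ring
    have e2 : polar Q x y' = 0 := by
      rw [hy', QuadraticMap.polar_sub_right, QuadraticMap.polar_smul_right, QuadraticMap.polar_self]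
      simp only [smul_eq_mul]
      field_simp
      ring
    rw [QuadraticMap.map_add (Q : QuadraticMap F (Fin n → F) F), QuadraticMap.map_smul,
      QuadraticMap.map_smul, QuadraticMap.polar_smul_left, QuadraticMap.polar_smul_right, e, e2]
    simp only [smul_eq_mul]
    ring
  set b := Q y - polar Q x y ^ 2 / (4 * Q x) with hb
  have hb0 : b ≠ 0 := fun e => hxy (by
    rw [hb, sub_eq_zero] at e
    rw [e]
    have := four_ne_zero' h2
    field_simp)
  obtain ⟨s, t, hst⟩ := FiniteField.exists_root_sum_quadratic (R := F)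
    (f := Polynomial.C (Q x) * Polynomial.X ^ 2)
    (g := Polynomial.C b * Polynomial.X ^ 2 - Polynomial.C d)
    (Polynomial.degree_C_mul_X_pow 2 hx) (by
      rw [Polynomial.degree_sub_eq_left_of_degree_lt] <;>
        rw [Polynomial.degree_C_mul_X_pow 2 hb0]
      · rfl
      · exact lt_of_le_of_lt Polynomial.degree_C_le (by norm_num))
    (FiniteField.odd_card_of_char_ne_two fun e => h2 (by
      have := ringChar.charP F
      rw [e] at this
      exact CharP.cast_eq_zero F 2))
  refine ⟨s • x + t • y', ?_⟩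
  rw [hval]
  simp at hst
  linear_combination hst

theorem prod_eq_zero {n : ℕ} {φ w : (Fin n → F) →ₗ[F] F} (hφ : φ ≠ 0)
    (h : ∀ x, φ x * w x = 0) : w = 0 := by
  obtain ⟨y, hy⟩ : ∃ y, φ y ≠ 0 := by
    by_contra hn
    push Not at hn
    exact hφ (LinearMap.ext hn)
  have hwy : w y = 0 := (mul_eq_zero.1 (h y)).resolve_left hy
  refine LinearMap.ext fun x => ?_
  by_contra hx
  have hφx : φ x = 0 := (mul_eq_zero.1 (h x)).resolve_right hx
  have e := h (x + y)
  rw [map_add, map_add, hφx, hwy, zero_add, add_zero] at e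
  exact hx ((mul_eq_zero.1 e).resolve_left hy)

theorem bound_arith {q n A B Z : ℕ} (hq : 2 ≤ q) (h1 : (q - 1) * q ^ n * A ≤ B)
    (hA : q ^ n - 1 ≤ 2 * A) (h0 : (q ^ n - 1) * (q ^ n - q) ≤ 2 * (q + 1) * Z) :
    (q ^ (n + 1) - 1) * (q ^ (n + 1) - q) ≤ 2 * (q + 1) * (B + Z) := by
  rcases Nat.eq_zero_or_pos n with rfl | hn
  · simp
  have hp : 1 ≤ q ^ n := Nat.one_le_pow _ _ (by omega)
  have hqn : q ≤ q ^ n := by
    calc q = q ^ 1 := (pow_one q).symm
      _ ≤ q ^ n := Nat.pow_le_pow_right (by omega) hn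
  have hp1 : q ^ n ≤ q ^ (n + 1) := Nat.pow_le_pow_right (by omega) n.le_succ
  zify [hp, hqn, hp.trans hp1, hqn.trans hp1, show 1 ≤ q by omega] at *
  rw [pow_succ]
  have h3 : ((q : ℤ) - 1) * q ^ n * ((q : ℤ) ^ n - 1) ≤ 2 * B := by
    have h4 := mul_le_mul_of_nonneg_left hA
      (mul_nonneg (sub_nonneg.2 (by exact_mod_cast (show 1 ≤ q by omega))) (by positivity) :
        (0 : ℤ) ≤ ((q : ℤ) - 1) * q ^ n)
    linarith
  have h5 := mul_le_mul_of_nonneg_left h3 (by positivity : (0 : ℤ) ≤ (q : ℤ) + 1)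
  nlinarith [h5, h0]

open _root_.Classical in
/-- The orbit bound for rank at least two. -/
theorem orbit_bound_two (h2 : (2 : F) ≠ 0) : ∀ (n : ℕ) (T : Finset (QuadraticForm F (Fin n → F))),
    Closed (T : Set (QuadraticForm F (Fin n → F))) → (∃ Q ∈ T, Two Q) →
    (Fintype.card F ^ n - 1) * (Fintype.card F ^ n - Fintype.card F) ≤
      2 * (Fintype.card F + 1) * T.card := by
  intro n
  induction n with
  | zero => intro T _ _; simp
  | succ n ih =>
    intro T hT hne
    obtain ⟨Q₀, hQ₀, hQ₀2⟩ := hne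
    have : Finite ((Fin n → F) →ₗ[F] F) :=
      Finite.of_injective (fun f => (f : (Fin n → F) → F)) DFunLike.coe_injective
    have := Fintype.ofFinite ((Fin n → F) →ₗ[F] F)
    have hcardL : Fintype.card ((Fin n → F) →ₗ[F] F) = Fintype.card F ^ n := by
      rw [← Fintype.card_congr ((Pi.basisFun F (Fin n)).constr F).toEquiv, Fintype.card_fun,
        Fintype.card_fin]
    let fib : F → ((Fin n → F) →ₗ[F] F) → Finset (QuadraticForm F (Fin (n + 1) → F)) :=
      fun d φ => T.filter fun Q => Q e0 = d ∧ beta Q = φ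
    have hfib : ∀ d φ Q, Q ∈ fib d φ ↔ Q ∈ T ∧ Q e0 = d ∧ beta Q = φ := fun d φ Q => by
      simp [fib]
    -- effect of a block substitution
    have hblk : ∀ (w : (Fin n → F) →ₗ[F] F) (A : (Fin n → F) →ₗ[F] (Fin n → F)),
        Function.Injective A → ∀ Q ∈ T, Q.comp (block 1 w A) ∈ T ∧
          (Q.comp (block 1 w A)) e0 = Q e0 ∧
          (∀ x, beta (Q.comp (block 1 w A)) x = w x * (2 * Q e0) + beta Q (A x)) ∧
          (∀ x, (Q.comp (block 1 w A)) (inH x) =
            w x * w x * Q e0 + Q (inH (A x)) + w x * beta Q (A x)) := by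
      intro w A hA Q hQ
      refine ⟨hT.comp _ (SpMinDegOdd.block_injective one_ne_zero w hA) Q hQ,
        by rw [QuadraticMap.comp_apply, SpMinDegOdd.block_e0, one_smul], fun x => ?_, fun x => ?_⟩
      · rw [SpMinDegOdd.beta_apply,
          show polar (Q.comp (block 1 w A)) e0 (inH x) =
            polar Q (block 1 w A e0) (block 1 w A (inH x)) by
            simp [QuadraticMap.polar, map_add],
          SpMinDegOdd.block_e0, SpMinDegOdd.block_inH, one_smul, QuadraticMap.polar_add_right,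
          QuadraticMap.polar_smul_right, QuadraticMap.polar_self, ← SpMinDegOdd.beta_apply]
        simp [smul_eq_mul, two_mul]
      · rw [QuadraticMap.comp_apply, SpMinDegOdd.block_inH,
          QuadraticMap.map_add (Q : QuadraticMap F (Fin (n + 1) → F) F), QuadraticMap.map_smul,
          QuadraticMap.polar_smul_left, ← SpMinDegOdd.beta_apply]
        rfl
    have hinjc : ∀ (g : (Fin (n + 1) → F) →ₗ[F] (Fin (n + 1) → F)), Function.Injective g →
        Function.Injective fun Q : QuadraticForm F (Fin (n + 1) → F) => Q.comp g := by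
      intro g hg Q Q' e
      refine QuadraticMap.ext fun z => ?_
      obtain ⟨z, rfl⟩ := (LinearMap.injective_iff_surjective.1 hg) z
      exact QuadraticMap.congr_fun e z
    have hshift : ∀ d, d ≠ 0 → ∀ φ φ' : (Fin n → F) →ₗ[F] F,
        (fib d φ).card ≤ (fib d φ').card := by
      intro d hd φ φ'
      let w : (Fin n → F) →ₗ[F] F := (2 * d)⁻¹ • (φ' - φ)
      refine Finset.card_le_card_of_injOn (fun Q => Q.comp (block 1 w LinearMap.id)) ?_
        ((hinjc _ (SpMinDegOdd.block_injective one_ne_zero w Function.injective_id)).injOn)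
      intro Q hQ
      obtain ⟨hQT, hQd, hQφ⟩ := (hfib _ _ _).1 (Finset.mem_coe.1 hQ)
      obtain ⟨h1, h3, h4, -⟩ := hblk w LinearMap.id Function.injective_id Q hQT
      refine Finset.mem_coe.2 ((hfib _ _ _).2 ⟨h1, h3.trans hQd, LinearMap.ext fun x => ?_⟩)
      rw [h4, hQd, hQφ]
      simp [w]
      field_simp
      ring
    have hget : ∀ Q ∈ T, Two Q → ∀ d, d ≠ 0 → ∃ Q' ∈ fib d 0, Two Q' := by
      intro Q hQ hQ2 d hd
      obtain ⟨z, hz⟩ := two_represents h2 hQ2 d
      have hz0 : z ≠ 0 := fun e => hd (by rw [← hz, e, QuadraticMap.map_zero])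
      obtain ⟨g, hg, hgz⟩ := SpMinDegOdd.exists_map_single hz0
      have hQ1 : Q.comp g ∈ T := hT.comp g hg Q hQ
      have hv : (Q.comp g) e0 = d := by rw [QuadraticMap.comp_apply, e0, hgz, hz]
      let w : (Fin n → F) →ₗ[F] F := (2 * d)⁻¹ • (0 - beta (Q.comp g))
      obtain ⟨h1, h3, h4, -⟩ := hblk w LinearMap.id Function.injective_id _ hQ1
      refine ⟨_, (hfib _ _ _).2 ⟨h1, h3.trans hv, LinearMap.ext fun x => ?_⟩,
        two_comp (SpMinDegOdd.block_injective one_ne_zero w Function.injective_id) (two_comp hg hQ2)⟩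
      rw [h4, hv]
      simp [w]
      field_simp
      ring
    have hclosed : ∀ d, Closed (((fib d 0).image fun Q => Q.comp inH : Finset _) :
        Set (QuadraticForm F (Fin n → F))) := by
      refine fun d => ⟨fun A hA R hR => ?_⟩
      obtain ⟨Q, hQ, rfl⟩ := Finset.mem_image.1 (Finset.mem_coe.1 hR)
      obtain ⟨hQT, hQd, hQ0⟩ := (hfib _ _ _).1 hQ
      obtain ⟨h1, h3, h4, h5⟩ := hblk 0 A hA Q hQT
      refine Finset.mem_coe.2 (Finset.mem_image.2 ⟨_, (hfib _ _ _).2 ⟨h1, h3.trans hQd,
        LinearMap.ext fun x => by rw [h4, hQ0]; simp⟩, QuadraticMap.ext fun x => ?_⟩)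
      rw [QuadraticMap.comp_apply, h5, hQ0]
      simp
    have hR : ∀ d, d ≠ 0 → Fintype.card F ^ n - 1 ≤ 2 * (fib d 0).card := by
      intro d hd
      obtain ⟨Q, hQ, hQ2⟩ := hget Q₀ hQ₀ hQ₀2 d hd
      refine le_trans (SpMinDegOdd.orbit_bound h2 n _ (hclosed d)
        ⟨_, Finset.mem_image_of_mem _ hQ, fun e => ?_⟩) (Nat.mul_le_mul_left _ Finset.card_image_le)
      obtain ⟨hQT, hQd, hQ0⟩ := (hfib _ _ _).1 hQ
      obtain ⟨x, y, hxy⟩ := hQ2
      have hval : ∀ z, Q z = d * (z 0 * z 0) := fun z => by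
        conv_lhs => rw [SpMinDegOdd.split z,
          QuadraticMap.map_add (Q : QuadraticMap F (Fin (n + 1) → F) F), QuadraticMap.map_smul, hQd,
          show Q (inH (outH z)) = (Q.comp inH) (outH z) from rfl, e,
          QuadraticMap.polar_smul_left, ← SpMinDegOdd.beta_apply, hQ0]
        simp [mul_comm]
      refine hxy ?_
      simp only [QuadraticMap.polar, hval, Pi.add_apply]
      ring
    set S₁ := T.filter fun Q => Q e0 ≠ 0 with hS₁
    set S₀ := T.filter fun Q => Q e0 = 0 with hS₀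
    have hsplit : T.card = S₁.card + S₀.card := by
      rw [Nat.add_comm S₁.card]
      exact (Finset.card_filter_add_card_filter_not _).symm
    obtain ⟨d₀, hd₀⟩ : ∃ d₀, d₀ ∈ (Finset.univ.erase (0 : F)) ∧
        ∀ d ∈ Finset.univ.erase (0 : F), (fib d₀ 0).card ≤ (fib d 0).card :=
      Finset.exists_min_image _ _ ⟨1, by simp⟩
    have hS₁card : (Fintype.card F - 1) * Fintype.card F ^ n * (fib d₀ 0).card ≤ S₁.card := by
      rw [Finset.card_eq_sum_card_fiberwise (f := fun Q => (Q e0, beta Q)) (s := S₁)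
        (t := (Finset.univ.erase (0 : F)) ×ˢ (Finset.univ : Finset ((Fin n → F) →ₗ[F] F)))
        (fun Q hQ => by simp at hQ ⊢; exact (Finset.mem_filter.1 hQ).2)]
      refine le_trans (le_of_eq ?_) (Finset.card_nsmul_le_sum _ _ (fib d₀ 0).card ?_)
      · rw [Finset.card_product, Finset.card_erase_of_mem (Finset.mem_univ _), Finset.card_univ,
          Finset.card_univ, hcardL, smul_eq_mul]
      rintro ⟨d, φ⟩ hdφ
      have hd : d ∈ Finset.univ.erase (0 : F) := (Finset.mem_product.1 hdφ).1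
      refine (hd₀.2 d hd).trans ((hshift d (Finset.ne_of_mem_erase hd) 0 φ).trans
        (Finset.card_le_card fun Q hQ => ?_))
      obtain ⟨h1, h3, h4⟩ := (hfib _ _ _).1 hQ
      exact Finset.mem_filter.2 ⟨Finset.mem_filter.2 ⟨h1, h3 ▸ Finset.ne_of_mem_erase hd⟩,
        Prod.ext h3 h4⟩
    have hfib0 : ∀ φ, fib 0 φ ⊆ S₀ := fun φ Q hQ =>
      Finset.mem_filter.2 ⟨((hfib _ _ _).1 hQ).1, ((hfib _ _ _).1 hQ).2.1⟩
    have hS₀card : (Fintype.card F ^ n - 1) * (Fintype.card F ^ n - Fintype.card F) ≤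
        2 * (Fintype.card F + 1) * S₀.card := by
      rcases (show n ≤ 1 ∨ 2 ≤ n by omega) with hn | hn
      · rcases (show n = 0 ∨ n = 1 by omega) with rfl | rfl <;> simp
      -- a singular vector
      obtain ⟨Q, hQ, hQ2, v, hv0, hv⟩ : ∃ Q ∈ T, Two Q ∧ ∃ v, v ≠ 0 ∧ Q v = 0 := by
        obtain ⟨Q, hQ, hQ2⟩ := hget Q₀ hQ₀ hQ₀2 1 one_ne_zero
        obtain ⟨hQT, hQd, hQ0⟩ := (hfib _ _ _).1 hQ
        have hval : ∀ s x, Q (s • e0 + inH x) = s * s + (Q.comp inH) x := fun s x => by
          rw [QuadraticMap.map_add (Q : QuadraticMap F (Fin (n + 1) → F) F), QuadraticMap.map_smul,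
            hQd, QuadraticMap.polar_smul_left, ← SpMinDegOdd.beta_apply, hQ0]
          simp
        by_cases hR2 : Two (Q.comp inH)
        · obtain ⟨x, hx⟩ := two_represents h2 hR2 (-1)
          refine ⟨Q, hQT, hQ2, (1 : F) • e0 + inH x, fun e => ?_, by rw [hval, hx]; ring⟩
          simpa [e0, inH] using congrFun e 0
        · obtain ⟨c, a, ha⟩ := exists_square_of_not_two h2 hR2
          obtain ⟨x, hx0, hx⟩ : ∃ x : Fin n → F, x ≠ 0 ∧ a ⬝ᵥ x = 0 := by
            by_cases ha1 : a ⟨1, by omega⟩ = 0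
            · exact ⟨Pi.single ⟨1, by omega⟩ 1, by simp, by simp [dotProduct_single, ha1]⟩
            · refine ⟨a ⟨1, by omega⟩ • Pi.single ⟨0, by omega⟩ 1 -
                a ⟨0, by omega⟩ • Pi.single ⟨1, by omega⟩ 1, fun e => ha1 ?_, ?_⟩
              · simpa [Fin.ext_iff] using congrFun e ⟨0, by omega⟩
              · simp [dotProduct_sub, dotProduct_smul, dotProduct_single, mul_comm]
          refine ⟨Q, hQT, hQ2, (0 : F) • e0 + inH x, fun e => hx0 (funext fun i => ?_),
            by rw [hval, ha, hx]; ring⟩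
          simpa [inH, Fin.succ_ne_zero, e0] using congrFun e i.succ
      obtain ⟨g, hg, hgv⟩ := SpMinDegOdd.exists_map_single hv0
      set Q₁ := Q.comp g with hQ₁
      have hQ₁T : Q₁ ∈ T := hT.comp g hg Q hQ
      have hQ₁0 : Q₁ e0 = 0 := by rw [hQ₁, QuadraticMap.comp_apply, e0, hgv, hv]
      have hQ₁2 : Two Q₁ := two_comp hg hQ2
      by_cases hb : beta Q₁ = 0
      · -- the vector is in the radical
        have h0mem : Q₁ ∈ fib 0 0 := (hfib _ _ _).2 ⟨hQ₁T, hQ₁0, hb⟩
        refine le_trans (ih _ (hclosed 0) ⟨_, Finset.mem_image_of_mem _ h0mem, ?_⟩)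
          (Nat.mul_le_mul_left _ (Finset.card_image_le.trans (Finset.card_le_card (hfib0 0))))
        have hval : ∀ z, Q₁ z = (Q₁.comp inH) (outH z) := fun z => by
          conv_lhs => rw [SpMinDegOdd.split z,
            QuadraticMap.map_add (Q₁ : QuadraticMap F (Fin (n + 1) → F) F), QuadraticMap.map_smul,
            hQ₁0, QuadraticMap.polar_smul_left, ← SpMinDegOdd.beta_apply, hb]
          simp
        obtain ⟨x, y, hxy⟩ := hQ₁2
        refine ⟨outH x, outH y, ?_⟩
        simpa only [QuadraticMap.polar, hval, map_add] using hxy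
      · -- the vector is not in the radical
        have hmany : ∀ φ : (Fin n → F) →ₗ[F] F, φ ≠ 0 →
            Fintype.card F ^ n ≤ (fib 0 φ).card := by
          intro φ hφ
          have hvec : ∀ (ψ : (Fin n → F) →ₗ[F] F) x, (fun i => ψ (Pi.single i 1)) ⬝ᵥ x = ψ x := by
            intro ψ x
            conv_rhs => rw [pi_eq_sum_univ' x, map_sum]
            exact Finset.sum_congr rfl fun i _ => by rw [map_smul, smul_eq_mul, mul_comm]
          have hne : ∀ ψ : (Fin n → F) →ₗ[F] F, ψ ≠ 0 → (fun i => ψ (Pi.single i 1)) ≠ 0 :=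
            fun ψ hψ e => hψ (LinearMap.ext fun x => by
              rw [← hvec ψ x, e, zero_dotProduct, LinearMap.zero_apply])
          obtain ⟨A, hA, hAe⟩ := SpMinDeg.exists_injective_linearMap (hne _ hb) (hne _ hφ)
          obtain ⟨h1, h3, h4, -⟩ := hblk 0 A hA Q₁ hQ₁T
          set Q₂ := Q₁.comp (block 1 0 A)
          have h3' : Q₂ e0 = 0 := h3.trans hQ₁0
          have h4' : beta Q₂ = φ := LinearMap.ext fun x => by
            rw [h4, hQ₁0, LinearMap.zero_apply, zero_mul, zero_add, ← hvec (beta Q₁), hAe, hvec]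
          rw [← hcardL, ← Finset.card_univ]
          refine Finset.card_le_card_of_injOn (fun w => Q₂.comp (block 1 w LinearMap.id))
            (fun w _ => ?_) (fun w _ w' _ e => ?_)
          · obtain ⟨g1, g3, g4, -⟩ := hblk w LinearMap.id Function.injective_id Q₂ h1
            exact Finset.mem_coe.2 ((hfib _ _ _).2 ⟨g1, g3.trans h3', LinearMap.ext fun x => by
              rw [g4, h3', h4']; simp⟩)
          · obtain ⟨-, -, -, g5⟩ := hblk w LinearMap.id Function.injective_id Q₂ h1
            obtain ⟨-, -, -, g5'⟩ := hblk w' LinearMap.id Function.injective_id Q₂ h1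
            refine sub_eq_zero.1 (prod_eq_zero hφ fun x => ?_)
            have e' := QuadraticMap.congr_fun e (inH x)
            simp only [g5, g5', h3', h4', mul_zero, zero_add, LinearMap.id_apply] at e'
            rw [LinearMap.sub_apply]
            linear_combination e'
        have hle : (Fintype.card F ^ n - 1) * Fintype.card F ^ n ≤ S₀.card := by
          rw [Finset.card_eq_sum_card_fiberwise (f := fun Q => beta Q) (s := S₀)
            (t := Finset.univ) (fun _ _ => Finset.mem_univ _)]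
          refine le_trans (le_trans (le_of_eq ?_)
            (Finset.card_nsmul_le_sum (Finset.univ.erase (0 : (Fin n → F) →ₗ[F] F)) _
              (Fintype.card F ^ n) fun φ hφ => (hmany φ (Finset.ne_of_mem_erase hφ)).trans ?_))
            (Finset.sum_le_sum_of_subset (Finset.subset_univ _))
          · rw [Finset.card_erase_of_mem (Finset.mem_univ _), Finset.card_univ, hcardL, smul_eq_mul]
          · exact Finset.card_le_card fun Q hQ =>
              Finset.mem_filter.2 ⟨hfib0 φ hQ, ((hfib _ _ _).1 hQ).2.2⟩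
        calc (Fintype.card F ^ n - 1) * (Fintype.card F ^ n - Fintype.card F)
            ≤ (Fintype.card F ^ n - 1) * Fintype.card F ^ n :=
              Nat.mul_le_mul_left _ (Nat.sub_le _ _)
          _ ≤ S₀.card := hle
          _ ≤ 2 * (Fintype.card F + 1) * S₀.card := Nat.le_mul_of_pos_left _ (by omega)
    rw [hsplit]
    exact bound_arith Fintype.one_lt_card hS₁card (hR d₀ (Finset.ne_of_mem_erase hd₀.1)) hS₀card

end CfsgLib.Classical.SpWeilGap
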